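import Cfsg.Agent.TwoSizesNormal.Orbits

/-!
A normal subgroup containing a noncentral Sylow subgroup, with only two class sizes, is nilpotent.
-/

set_option autoImplicit false

namespace CfsgLib.TwoSizesNormal

open OneMMN

variable {G : Type*} [Group G] [Finite G] {r : ℕ} [Fact r.Prime] {N : Subgroup G} {R : Sylow r G} {m : ℕ}

omit [Finite G] [Fact r.Prime] in
theorem nilpotent_of_comm (h : IsMulCommutative N) : Group.IsNilpotent N :=
  letI : CommGroup N := { (inferInstance : Group N) with mul_comm := h.is_comm.comm }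
  CommGroup.isNilpotent

theorem Setup.isNilpotent (D : Setup r N R m) : Group.IsNilpotent N := by
  have hr : r.Prime := Fact.out
  by_cases hdvd : r ∣ m
  swap
  · exact nilpotent_of_comm (D.comm_of_not_dvd hdvd)
  have hm : m ≠ 0 := by
    obtain ⟨u, -, huN⟩ := D.exists_nc
    rw [← D.idx huN]
    exact Subgroup.index_ne_zero_of_finite
  by_cases hcomp : ∃ x, Comp r N x
  swap
  · push Not at hcomp
    haveI : Group.IsNilpotent (N ⧸ Subgroup.center N) := by
      refine IsPGroup.isNilpotent (p := r) fun q => ?_
      obtain ⟨n, rfl⟩ := QuotientGroup.mk_surjective q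
      obtain ⟨a, b, hab, hc, ha, hb, -, hbz⟩ := split (p := r) Fact.out (n : G)
      obtain ⟨k, hk⟩ := ha
      refine ⟨k, ?_⟩
      rw [← QuotientGroup.mk_pow, QuotientGroup.eq_one_iff]
      have hbc : b ∈ Subgroup.center G := by
        refine le_of_pElts (A := Subgroup.center G) (B := Subgroup.zpowers b) ?_ (Subgroup.mem_zpowers b)
        intro q hq c hc hcq
        by_contra hcc
        have hcn : c ∈ Subgroup.zpowers (n : G) := Subgroup.zpowers_le.2 hbz hc
        refine hcomp c ⟨⟨Subgroup.zpowers_le.2 n.2 hcn, hcc⟩, q, hq, ?_, hcq⟩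
        rintro rfl
        obtain ⟨e, he⟩ := hcq
        rcases e with _ | e
        · exact hcc (by rw [orderOf_eq_one_iff.1 (he.trans (pow_zero q))]; exact one_mem _)
        · exact hb ((he ▸ dvd_pow_self q e.succ_ne_zero : q ∣ orderOf c).trans (orderOf_dvd_of_mem_zpowers hc))
      have e : ((n ^ r ^ k : N) : G) = b ^ r ^ k := by
        rw [SubmonoidClass.coe_pow, hab, (show Commute a b from hc).mul_pow, ← hk, pow_orderOf_eq_one, one_mul]
      rw [Subgroup.mem_center_iff]
      intro g
      refine Subtype.ext ?_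
      rw [Subgroup.coe_mul, Subgroup.coe_mul, e]
      exact Subgroup.mem_center_iff.1 (pow_mem hbc _) g
    exact Subgroup.isNilpotent_of_ker_le_center (QuotientGroup.mk' (Subgroup.center N))
      (le_of_eq (QuotientGroup.ker_mk' _))
  by_cases hbig : ∃ x, Comp r N x ∧ r * zr R < Nat.card (T r x)
  · obtain ⟨x, hx, hlt⟩ := hbig
    exact nilpotent_of_comm (D.comm_of_big hx hdvd hm hlt)
  · push Not at hbig
    exact (Small.contradiction
      { toSetup := D, dvd := hdvd, ne_zero := hm, comp := hcomp,
        card_T := fun x hx => le_antisymm (hbig x hx) (D.r_mul_zr_le hx) }).elim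

end CfsgLib.TwoSizesNormal
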