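import Cfsg.Agent.TwoSizesNormal.Frob

/-!
The minimal case is impossible: counting the components modulo the centre.
-/

set_option autoImplicit false

namespace CfsgLib.TwoSizesNormal

open OneMMN

variable {G : Type*} [Group G] {r : ℕ} {N : Subgroup G} {R : Sylow r G} {m : ℕ}
variable [Finite G] [Fact r.Prime] (D : Small r N R m)
include D

theorem Small.card_πR {R1 : Sylow r G} {x : G} (hx : Comp r N x) (h : T r x ≤ R1) :
    Nat.card ((R1 : Subgroup G).map (π (G := G))) = r * r := by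
  obtain ⟨-, hWc⟩ := D.W_spec hx D.dvd D.ne_zero R1 h
  rw [D.W_eq_sylow hx R1 h] at hWc
  have h1 := card_eq_card_map_mul (N := (R1 : Subgroup G)) (V := (R1 : Subgroup G)) inf_le_left le_rfl
  have e : (R1 : Subgroup G) ⊓ Subgroup.center G = (R : Subgroup G) ⊓ Subgroup.center G := le_antisymm
    (fun a ha => ⟨central_rElt_mem R ha.2 (PElt.of_mem Fact.out R1.isPGroup' ha.1), ha.2⟩)
    fun a ha => ⟨central_rElt_mem R1 ha.2 (PElt.of_mem Fact.out R.isPGroup' ha.1), ha.2⟩
  rw [hWc, D.card_T x hx, e, ← mul_assoc] at h1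
  exact (Nat.eq_of_mul_eq_mul_right Nat.card_pos h1).symm

theorem Small.comm_πR {R1 : Sylow r G} {x t : G} (hx : Comp r N x) (h : T r x ≤ R1) (ht : t ∈ T r x)
    {g : G} (hg : g ∈ (R1 : Subgroup G)) : π g * π t = π t * π g := by
  obtain ⟨hTW, -⟩ := D.W_spec hx D.dvd D.ne_zero R1 h
  obtain ⟨b, hb, hbN, -, hfix⟩ := D.exists_fixed hx (R1.isPGroup'.to_le inf_le_left) hTW
    (inf_le_right : W r R1 x ≤ _)
  obtain ⟨j, hj⟩ : π t ∈ Subgroup.zpowers (π b) := D.π_T hx hb hbN.2 ▸ Subgroup.mem_map_of_mem _ ht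
  rw [← hj]
  exact ((show Commute (π g) (π b) from
    hfix g ((D.W_eq_sylow hx R1 h).ge hg)).zpow_right j).eq

/-- Two independent commuting elements generate the Sylow subgroup modulo the centre. -/
theorem Small.plane {R1 : Sylow r G} (hR : Nat.card ((R1 : Subgroup G).map (π (G := G))) = r * r) {a b : G}
    (ha : a ∈ (R1 : Subgroup G)) (hb : b ∈ (R1 : Subgroup G)) (hbc : b ∉ Subgroup.center G)
    (hac : a ∉ Subgroup.center G) (hab : π b ∉ Subgroup.zpowers (π a)) {q : G ⧸ Subgroup.center G}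
    (hq : q ∈ (R1 : Subgroup G).map (π (G := G))) : ∃ i < r, ∃ j < r, q = π a ^ i * π b ^ j := by
  classical
  have hoa := D.orderOf_π (PElt.of_mem Fact.out R1.isPGroup' ha) hac
  have hob := D.orderOf_π (PElt.of_mem Fact.out R1.isPGroup' hb) hbc
  set Wb := (R1 : Subgroup G).map (π (G := G))
  let f : Fin r × Fin r → Wb := fun w => ⟨π a ^ w.1.1 * π b ^ w.2.1,
    mul_mem (pow_mem (Subgroup.mem_map_of_mem _ ha) _) (pow_mem (Subgroup.mem_map_of_mem _ hb) _)⟩
  have hinj : Function.Injective f := by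
    rintro ⟨i, j⟩ ⟨i', j'⟩ h
    have h' : π a ^ i.1 * π b ^ j.1 = π a ^ i'.1 * π b ^ j'.1 := congrArg Subtype.val h
    have h2 : (π a ^ i'.1)⁻¹ * π a ^ i.1 = π b ^ j'.1 * (π b ^ j.1)⁻¹ := by
      rw [eq_mul_inv_iff_mul_eq, mul_assoc, h', inv_mul_cancel_left]
    have h3 : π b ^ j'.1 * (π b ^ j.1)⁻¹ = 1 := by
      by_contra hy
      have hyb : π b ^ j'.1 * (π b ^ j.1)⁻¹ ∈ Subgroup.zpowers (π b) :=
        mul_mem (Subgroup.npow_mem_zpowers _ _) (inv_mem (Subgroup.npow_mem_zpowers _ _))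
      have hya : π b ^ j'.1 * (π b ^ j.1)⁻¹ ∈ Subgroup.zpowers (π a) :=
        h2 ▸ mul_mem (inv_mem (Subgroup.npow_mem_zpowers _ _)) (Subgroup.npow_mem_zpowers _ _)
      have hoy : orderOf (π b ^ j'.1 * (π b ^ j.1)⁻¹) = r :=
        ((Nat.dvd_prime Fact.out).1 ((orderOf_dvd_of_mem_zpowers hyb).trans (dvd_of_eq hob))).resolve_left
          (mt orderOf_eq_one_iff.1 hy)
      refine hab ?_
      rw [← Subgroup.eq_of_le_of_card_ge (Subgroup.zpowers_le.2 hya)
        (by rw [Nat.card_zpowers, Nat.card_zpowers, hoy, hoa]),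
        Subgroup.eq_of_le_of_card_ge (Subgroup.zpowers_le.2 hyb)
        (by rw [Nat.card_zpowers, Nat.card_zpowers, hoy, hob])]
      exact Subgroup.mem_zpowers _
    have ej : j'.1 = j.1 := by
      have hA : j'.1 < orderOf (π b) := by rw [hob]; exact j'.2
      have hB : j.1 < orderOf (π b) := by rw [hob]; exact j.2
      exact pow_injOn_Iio_orderOf (x := π b) hA hB (mul_inv_eq_one.1 h3)
    rw [h3, inv_mul_eq_one] at h2
    have ei : i'.1 = i.1 := by
      have hA : i'.1 < orderOf (π a) := by rw [hoa]; exact i'.2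
      have hB : i.1 < orderOf (π a) := by rw [hoa]; exact i.2
      exact pow_injOn_Iio_orderOf (x := π a) hA hB h2
    rw [Fin.ext ei.symm, Fin.ext ej.symm]
  haveI : Fintype Wb := Fintype.ofFinite _
  obtain ⟨⟨i, j⟩, hij⟩ := ((Fintype.bijective_iff_injective_and_card f).2 ⟨hinj, by
    rw [Fintype.card_prod, Fintype.card_fin, ← Nat.card_eq_fintype_card, hR]⟩).2 ⟨q, hq⟩
  exact ⟨i, i.2, j, j.2, (congrArg Subtype.val hij).symm⟩

/-- The Sylow subgroup contains the `T` of each of its elements. -/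
theorem Small.T_le_of_mem {R1 : Sylow r G} {x g : G} (hx : Comp r N x) (hg : g ∈ T r x)
    (hgc : g ∉ Subgroup.center G) (hgR : g ∈ (R1 : Subgroup G)) : T r x ≤ R1 := by
  intro s hs
  obtain ⟨j, hj⟩ : π s ∈ Subgroup.zpowers (π g) := D.π_T hx hg hgc ▸ Subgroup.mem_map_of_mem _ hs
  change π g ^ j = π s at hj
  rw [← map_zpow, π_eq_iff] at hj
  have hgs : (g ^ j)⁻¹ * s ∈ T r x := mul_mem (inv_mem (Subgroup.zpow_mem _ hg j)) hs
  have := mul_mem (Subgroup.zpow_mem _ hgR j)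
    (central_rElt_mem R1 hj (PElt.of_mem Fact.out (D.T_spec hx).1 hgs))
  rwa [mul_inv_cancel_left] at this

/-- Every `r`-element has a component. -/
theorem Small.all_AType {g : G} (hgr : PElt r g) (hgN : NC N g) : AType r N g := by
  classical
  by_contra hgA
  haveI hNn := D.normal
  obtain ⟨x, hx⟩ := D.comp
  obtain ⟨t, ht, htN⟩ := D.exists_T_nc hx
  have htr := PElt.of_mem Fact.out (D.T_spec hx).1 ht
  obtain ⟨R1, hR1⟩ := (D.T_spec hx).1.exists_le_sylow
  obtain ⟨k, hk⟩ := exists_conj_mem_sylow R1 hgr.isPGroup_zpowers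
  have hg1R : k * g * k⁻¹ ∈ (R1 : Subgroup G) := hk g (Subgroup.mem_zpowers g)
  obtain ⟨g1, hg1⟩ : ∃ g1, g1 = k * g * k⁻¹ := ⟨_, rfl⟩
  rw [← hg1] at hg1R
  have hg : NonA r N g1 := by
    refine ⟨hg1 ▸ hgr.conj k, hg1 ▸ D.NC_conj hgN k, fun hA => hgA ?_⟩
    have := D.AType_conj hA k⁻¹
    rw [hg1] at this
    simpa [mul_assoc] using this
  have hR := D.card_πR hx hR1
  have htA : AType r N t := ⟨x, hx, T_le r x ht⟩
  have hgt : π g1 ∉ Subgroup.zpowers (π t) := fun h => by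
    rw [← D.π_T hx ht htN.2] at h
    obtain ⟨s, hs, e⟩ := h
    exact hg.2.2 (AType_of_π_eq ⟨x, hx, T_le r x hs⟩ e)
  have hfix : π g1 * π t = π t * π g1 := D.comm_πR hx hR1 ht hg1R
  have hcom : ∀ y ∈ (R1 : Subgroup G), π y * π g1 = π g1 * π y := by
    intro y hy
    obtain ⟨i, -, j, -, e⟩ := D.plane hR (hR1 ht) hg1R hg.2.1.2 htN.2 hgt (Subgroup.mem_map_of_mem π hy)
    rw [e]
    exact (((show Commute (π t) (π g1) from hfix.symm).pow_left i).mul_left
      ((Commute.refl (π g1)).pow_left j)).eq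
  set Cg := Subgroup.centralizer ({π g1} : Set (G ⧸ Subgroup.center G))
  have hM : IsPGroup r (N.map (π (G := G)) ⊓ Cg : Subgroup (G ⧸ Subgroup.center G)) := by
    refine IsPGroup.iff_orderOf.2 fun ⟨q, hq⟩ => ?_
    obtain ⟨n, hn, rfl⟩ := hq.1
    have hc := Subgroup.mem_centralizer_singleton_iff.1 hq.2
    obtain ⟨a, b, rfl, -, ha, hb, -, hbz⟩ := split (p := r) Fact.out n
    have hbc : π b * π g1 = π g1 * π b := π_commute_zpowers hc hbz
    have hbC : b ∈ C g1 := mem_C_of_π hbc (hg.1.coprime Fact.out hb).symm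
    have hbN : b ∈ N := Subgroup.zpowers_le.2 hn hbz
    obtain ⟨e, he⟩ := ha
    have hd : orderOf (π (a * b)) ∣ r ^ e := by
      rw [map_mul, π_eq_one_iff.2 (D.nonA_prime hg hbC hbN hb), mul_one, ← he]
      exact orderOf_map_dvd _ a
    obtain ⟨i, -, hi⟩ := (Nat.dvd_prime_pow Fact.out).1 hd
    exact ⟨i, by rw [← hi, Subgroup.orderOf_mk]⟩
  have hsurj : Function.Surjective (π (G := G)) := QuotientGroup.mk'_surjective _
  have hMR : (N.map (π (G := G)) ⊓ Cg : Subgroup (G ⧸ Subgroup.center G)) =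
      (R1 : Subgroup G).map (π (G := G)) :=
    (R1.mapSurjective hsurj).is_maximal' hM fun q hq => by
      obtain ⟨y, hy, rfl⟩ := hq
      exact ⟨Subgroup.mem_map_of_mem _ (D.rSub_le R1.isPGroup' hy),
        Subgroup.mem_centralizer_singleton_iff.2 (hcom y hy)⟩
  refine D.absurd_of_bound hg hx (C g1) le_rfl
    (fun l i => ∃ j : ℕ, π (l * t * l⁻¹) = π t ^ i * π g1 ^ j) ?_ ?_
  · intro l hl
    have hlg : π l * π g1 = π g1 * π l := by rw [← map_mul, ← map_mul, mem_C.1 hl]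
    have hy : π (l * t * l⁻¹) ∈ (R1 : Subgroup G).map (π (G := G)) := by
      rw [← hMR]
      refine ⟨Subgroup.mem_map_of_mem _ (D.conj_mem_N htN.1 l), Subgroup.mem_centralizer_singleton_iff.2 ?_⟩
      have h1 : Commute (π l) (π g1) := hlg
      have h2 : Commute (π t) (π g1) := hfix.symm
      rw [map_mul, map_mul, map_inv]
      exact ((h1.mul_left h2).mul_left h1.inv_left).eq
    obtain ⟨i, hi, j, -, e⟩ := D.plane hR (hR1 ht) hg1R hg.2.1.2 htN.2 hgt hy
    refine ⟨i, ?_, hi, j, e⟩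
    rintro rfl
    rw [pow_zero, one_mul, ← map_pow] at e
    have hA := AType_of_π_eq (D.AType_conj htA l) e
    have hgjc : g1 ^ j ∉ Subgroup.center G := fun h => by
      rw [π_eq_one_iff.2 h, π_eq_one_iff, conj_mem_center] at e
      exact htN.2 e
    obtain ⟨x', hx', hgx'⟩ := hA
    refine hg.2.2 ⟨x', hx', ?_⟩
    rw [← D.comp_eq hx' hgx' ⟨pow_mem hg.2.1.1 j, hgjc⟩]
    exact C_pow_le g1 j (self_mem_C g1)
  · rintro l hl l' hl' i ⟨j, hj⟩ ⟨j', hj'⟩
    obtain ⟨u, hu⟩ : ∃ u, u = l⁻¹ * l' := ⟨_, rfl⟩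
    rw [← hu]
    have hlg : Commute (π l) (π g1) := by
      show π l * π g1 = π g1 * π l
      rw [← map_mul, ← map_mul, mem_C.1 hl]
    have hl'g : Commute (π l') (π g1) := by
      show π l' * π g1 = π g1 * π l'
      rw [← map_mul, ← map_mul, mem_C.1 hl']
    have hug : Commute (π u) (π g1) := by rw [hu, map_mul, map_inv]; exact hlg.inv_left.mul_left hl'g
    simp only [map_mul, map_inv] at hj hj'
    have hd : π u * π t * (π u)⁻¹ = π t * π g1 ^ ((j' : ℤ) - j) := by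
      have e1 : π l' * π t * (π l')⁻¹ = (π l * π t * (π l)⁻¹) * π g1 ^ ((j' : ℤ) - j) := by
        rw [hj, hj', mul_assoc, ← zpow_natCast (π g1) j, ← zpow_add, add_sub_cancel, zpow_natCast]
      rw [hu, map_mul, map_inv]
      calc (π l)⁻¹ * π l' * π t * ((π l)⁻¹ * π l')⁻¹
          = (π l)⁻¹ * (π l' * π t * (π l')⁻¹) * π l := by group
        _ = (π l)⁻¹ * ((π l * π t * (π l)⁻¹) * π g1 ^ ((j' : ℤ) - j)) * π l := by rw [e1]
        _ = π t * ((π l)⁻¹ * π g1 ^ ((j' : ℤ) - j) * π l) := by group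
        _ = _ := by rw [(hlg.inv_left.zpow_right _).eq]; group
    have hiter : ∀ n : ℕ, π u ^ n * π t * (π u ^ n)⁻¹ = π t * π g1 ^ (((j' : ℤ) - j) * n) := by
      intro n
      induction n with
      | zero => simp
      | succ n ih =>
        calc π u ^ (n + 1) * π t * (π u ^ (n + 1))⁻¹ = π u * (π u ^ n * π t * (π u ^ n)⁻¹) * (π u)⁻¹ := by
              rw [pow_succ']; group
          _ = (π u * π t * (π u)⁻¹) * (π u * π g1 ^ (((j' : ℤ) - j) * n) * (π u)⁻¹) := by rw [ih]; group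
          _ = _ := by
              rw [hd, (hug.zpow_right _).eq, mul_inv_cancel_right, mul_assoc, ← zpow_add]
              congr 2
              push_cast
              ring
    obtain ⟨a, b, hab, -, ha, hb, -, hbz⟩ := split (p := r) Fact.out u
    obtain ⟨n, hn⟩ := mem_powers_iff_mem_zpowers.2 hbz
    change u ^ n = b at hn
    have hit2 := hiter (n * orderOf b)
    rw [← map_pow, pow_mul, hn, pow_orderOf_eq_one, map_one, one_mul, inv_one, mul_one, left_eq_mul] at hit2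
    have hone : π g1 ^ (((j' : ℤ) - j) * n) = 1 := by
      refine orderOf_eq_one_iff.1 (Nat.dvd_one.1 ?_)
      have h1 : orderOf (π g1 ^ (((j' : ℤ) - j) * n)) ∣ orderOf b := orderOf_dvd_of_pow_eq_one (by
        rw [← zpow_natCast, ← zpow_mul, mul_assoc]
        exact_mod_cast hit2)
      have h2 : orderOf (π g1 ^ (((j' : ℤ) - j) * n)) ∣ r := by
        rw [← D.orderOf_π hg.1 hg.2.1.2]
        exact orderOf_dvd_of_mem_zpowers (Subgroup.zpow_mem_zpowers _ _)
      have h3 := Nat.dvd_gcd h1 h2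
      rwa [Nat.Coprime.gcd_eq_one ((Fact.out : r.Prime).coprime_iff_not_dvd.2 hb).symm] at h3
    have hbt : π b * π t = π t * π b := by
      have := hiter n
      rw [← map_pow, hn, hone, mul_one, mul_inv_eq_iff_eq_mul] at this
      exact this
    refine ⟨b, ?_, ?_⟩
    · rw [SetLike.mem_coe, ← D.comp_eq hx (T_le r x ht) htN]
      exact mem_C_of_π hbt (htr.coprime Fact.out hb).symm
    · rw [hab, map_mul, show QuotientGroup.mk' N a = 1 from (QuotientGroup.eq_one_iff a).2 (D.rElt_mem ha),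
        one_mul]

end CfsgLib.TwoSizesNormal
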