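import Cfsg.Agent.TwoSizesNormal.Lines

/-!
The normalizer of `T x` in a Sylow subgroup is the whole Sylow subgroup. The key is the identity of norms in
a nonabelian group of order `p r` acting on an abelian group.
-/

set_option autoImplicit false

namespace CfsgLib.TwoSizesNormal

open OneMMN

/-- The norms of a nonabelian group of order `p r`: if all norms vanish, so does the `r`-th power. -/
theorem norm_lemma {M : Type*} [CommGroup M] {Q : Type*} [Group Q] (ρ : Q →* MulAut M) {ν ζ : Q} {p r b : ℕ}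
    [Fact r.Prime] (hp : p.Prime) (hν : ν ^ p = 1) (hζ : orderOf ζ = r) (hc : ν * ζ * ν⁻¹ = ζ ^ b)
    (hb : ζ ^ b ≠ ζ) (hz : ∀ v : M, ∏ i : ZMod r, ρ (ζ ^ i.val) v = 1)
    (hn : ∀ (i : ZMod r) (v : M), ∏ j ∈ Finset.range p, ρ ((ζ ^ i.val * ν * (ζ ^ i.val)⁻¹) ^ j) v = 1)
    (v : M) : v ^ r = 1 := by
  classical
  haveI := Fact.mk hp
  set pw : ZMod r → Q := fun a => ζ ^ a.val
  have hmod : ∀ k : ℕ, ζ ^ (k % r) = ζ ^ k := fun k =>
    (congrArg (fun n => ζ ^ (k % n)) hζ.symm).trans (pow_mod_orderOf _ _)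
  have hcast : ∀ k : ℕ, pw (k : ZMod r) = ζ ^ k := fun k => by
    simp only [pw, ZMod.val_natCast, hmod]
  have hadd : ∀ a c : ZMod r, pw (a + c) = pw a * pw c := fun a c => by
    simp only [pw, ZMod.val_add, hmod, pow_add]
  have hiter : ∀ j : ℕ, ν ^ j * ζ * (ν ^ j)⁻¹ = ζ ^ (b ^ j) := by
    intro j
    induction j with
    | zero => simp
    | succ j ih =>
      calc ν ^ (j + 1) * ζ * (ν ^ (j + 1))⁻¹ = ν * (ν ^ j * ζ * (ν ^ j)⁻¹) * ν⁻¹ := by rw [pow_succ']; group
        _ = (ν * ζ * ν⁻¹) ^ (b ^ j) := by rw [ih, conj_pow]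
        _ = _ := by rw [hc, ← pow_mul, pow_succ']
  have hconj : ∀ (j : ℕ) (i : ZMod r), ν ^ j * pw i * (ν ^ j)⁻¹ = pw ((b : ZMod r) ^ j * i) := by
    intro j i
    rw [← Nat.cast_pow, ← ZMod.natCast_zmod_val i, ← Nat.cast_mul, hcast, hcast, ← conj_pow, hiter, pow_mul]
  have hb1 : (b : ZMod r) ≠ 1 := fun e => hb <| by
    rw [← hcast b, e, ← Nat.cast_one, hcast, pow_one]
  have hbp : (b : ZMod r) ^ p = 1 := by
    have h := hiter p
    rw [hν] at h
    simp only [one_mul, inv_one, mul_one] at h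
    have h2 : ζ ^ 1 = ζ ^ (b ^ p) := by rw [pow_one]; exact h
    rw [pow_eq_pow_iff_modEq, hζ, ← ZMod.natCast_eq_natCast_iff] at h2
    simpa using h2.symm
  have hne : ∀ j ∈ Finset.range p, j ≠ 0 → 1 - (b : ZMod r) ^ j ≠ 0 := by
    intro j hj hj0 e
    have hd := orderOf_dvd_of_pow_eq_one (sub_eq_zero.1 e).symm
    rw [orderOf_eq_prime hbp hb1] at hd
    have := Nat.le_of_dvd (Nat.pos_of_ne_zero hj0) hd
    rw [Finset.mem_range] at hj
    omega
  have hkey : ∀ (j : ℕ) (i : ZMod r),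
      (pw i * ν * (pw i)⁻¹) ^ j = pw ((1 - (b : ZMod r) ^ j) * i) * ν ^ j := by
    intro j i
    rw [conj_pow]
    have e : pw i = pw ((1 - (b : ZMod r) ^ j) * i) * pw ((b : ZMod r) ^ j * i) := by
      rw [← hadd]; congr 1; ring
    rw [← hconj j i] at e
    calc pw i * ν ^ j * (pw i)⁻¹
        = (pw ((1 - (b : ZMod r) ^ j) * i) * (ν ^ j * pw i * (ν ^ j)⁻¹)) * ν ^ j * (pw i)⁻¹ := by rw [← e]
      _ = _ := by group
  have hall : ∏ j ∈ Finset.range p, ∏ i : ZMod r, ρ ((pw i * ν * (pw i)⁻¹) ^ j) v = 1 := by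
    rw [Finset.prod_comm]
    exact Finset.prod_eq_one fun i _ => hn i v
  rw [Finset.prod_eq_single 0] at hall
  · simpa [ZMod.card] using hall
  · intro j hj hj0
    simp only [hkey, map_mul, MulAut.mul_apply]
    rw [← hz (ρ (ν ^ j) v)]
    exact Fintype.prod_equiv (Equiv.mulLeft₀ _ (hne j hj hj0)) _ _ fun i => rfl
  · intro h
    exact absurd (Finset.mem_range.2 hp.pos) h

variable {G : Type*} [Group G] {r : ℕ} {N : Subgroup G} {R : Sylow r G} {m : ℕ}

/-- The `p`-elements of `C x ⊓ N`. -/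
def Pp (p : ℕ) (N : Subgroup G) (x : G) : Subgroup G :=
  Subgroup.closure {y | y ∈ C x ∧ y ∈ N ∧ PElt p y}

theorem mem_normalizer_Pp {p : ℕ} [hN : N.Normal] {x g : G} (hg : g ∈ Subgroup.normalizer (C x : Set G)) :
    g ∈ Subgroup.normalizer (Pp p N x : Set G) := by
  have aux : ∀ k ∈ Subgroup.normalizer (C x : Set G), ∀ y ∈ Pp p N x, k * y * k⁻¹ ∈ Pp p N x := by
    intro k hk y hy
    induction hy using Subgroup.closure_induction with
    | mem z hz => exact Subgroup.subset_closure (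
        ⟨(Subgroup.mem_normalizer_iff.1 hk z).1 hz.1, hN.conj_mem z hz.2.1 k, hz.2.2.conj k⟩)
    | one => simp
    | mul a b _ _ ha hb => simpa [mul_assoc] using mul_mem ha hb
    | inv a _ ha => simpa [mul_assoc] using inv_mem ha
  rw [Subgroup.mem_normalizer_iff]
  exact fun y => ⟨aux g hg y, fun h => by simpa [mul_assoc] using aux g⁻¹ (inv_mem hg) _ h⟩

variable [Finite G] [Fact r.Prime] (D : Small r N R m)
include D

theorem Small.Pp_spec {x : G} (hx : Comp r N x) (p : ℕ) [Fact p.Prime] :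
    IsPGroup p (Pp p N x) ∧ Pp p N x ≤ C x ∧ Pp p N x ≤ N := by
  have h : ∀ y ∈ Pp p N x, y ∈ C x ∧ y ∈ N ∧ PElt p y := by
    intro y hy
    induction hy using Subgroup.closure_induction with
    | mem z hz => exact hz
    | one => exact ⟨one_mem _, one_mem _, 0, by simp⟩
    | mul a b _ _ ha hb =>
      refine ⟨mul_mem ha.1 hb.1, mul_mem ha.2.1 hb.2.1, ?_⟩
      have hc : Commute a b := D.comm hx ha.1 hb.1 hb.2.1
      obtain ⟨k, hk⟩ := ha.2.2
      obtain ⟨l, hl⟩ := hb.2.2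
      have hd : orderOf (a * b) ∣ p ^ (k + l) := by
        rw [pow_add, ← hk, ← hl]
        exact hc.orderOf_mul_dvd_lcm.trans (Nat.lcm_dvd_mul _ _)
      obtain ⟨i, -, hi⟩ := (Nat.dvd_prime_pow Fact.out).1 hd
      exact ⟨i, hi⟩
    | inv a _ ha => exact ⟨inv_mem ha.1, inv_mem ha.2.1, by simpa [PElt, orderOf_inv] using ha.2.2⟩
  refine ⟨IsPGroup.iff_orderOf.2 fun y => ?_, fun y hy => (h y hy).1, fun y hy => (h y hy).2.1⟩
  obtain ⟨k, hk⟩ := (h y y.2).2.2
  exact ⟨k, by rw [← hk, Subgroup.orderOf_coe]⟩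

/-- A `p`-element normalizing a component outside it has central `p`-th power. -/
theorem Small.pow_p_mem {x u : G} {p : ℕ} [Fact p.Prime] (hx : Comp r N x) (hxp : PElt p x) (hu : PElt p u)
    (huN : u ∈ N) (huC : u ∈ Subgroup.normalizer (C x : Set G)) (hux : u ∉ C x) :
    u ^ p ∈ Subgroup.center G := by
  haveI := D.normal
  obtain ⟨hP, hPC, hPN⟩ := D.Pp_spec hx p
  have hxP : x ∈ Pp p N x := Subgroup.subset_closure ⟨self_mem_C x, hx.1.1, hxp⟩
  set P' := Pp p N x ⊔ Subgroup.zpowers u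
  have hn : Subgroup.zpowers u ≤ Subgroup.normalizer (Pp p N x : Set G) :=
    Subgroup.zpowers_le.2 (mem_normalizer_Pp huC)
  have hP' : IsPGroup p P' := hP.to_sup_of_normal_left' hu.isPGroup_zpowers hn
  have hP'n : P' ≤ Subgroup.normalizer (Pp p N x : Set G) := sup_le Subgroup.le_normalizer hn
  set V := P'.map (π (G := G)) with hVdef
  set U := ((Pp p N x).map (π (G := G))).subgroupOf V with hU
  haveI : U.Normal := by
    constructor
    rintro ⟨a, haV⟩ ha ⟨v, hv⟩
    rw [hU, Subgroup.mem_subgroupOf] at ha ⊢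
    obtain ⟨t, ht, rfl⟩ := ha
    obtain ⟨w, hw, rfl⟩ := hv
    exact ⟨w * t * w⁻¹, (Subgroup.mem_normalizer_iff.1 (hP'n hw) t).1 ht, by simp [map_mul, map_inv]⟩
  have hne : U ≠ ⊥ := fun e => by
    have hm : (⟨π x, Subgroup.mem_map_of_mem _ (Subgroup.mem_sup_left hxP)⟩ : V) ∈ U :=
      Subgroup.mem_subgroupOf.2 (Subgroup.mem_map_of_mem _ hxP)
    rw [e, Subgroup.mem_bot] at hm
    exact hx.1.2 (π_eq_one_iff.1 (congrArg Subtype.val hm))
  obtain ⟨z, hz, hz1⟩ := (U ⊓ Subgroup.center V).bot_or_exists_ne_one.resolve_left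
    (PReduced.inf_center_ne_bot (hP'.map _) hne)
  obtain ⟨b₀, hb₀, hb₀z⟩ := Subgroup.mem_subgroupOf.1 hz.1
  obtain ⟨k, hk⟩ : ∃ k, orderOf (π b₀) = p ^ (k + 1) := by
    obtain ⟨l, hl⟩ := PElt.of_mem Fact.out hP hb₀
    obtain ⟨j, -, hj⟩ := (Nat.dvd_prime_pow Fact.out).1 (hl ▸ orderOf_map_dvd (π (G := G)) b₀)
    rcases j with _ | j
    · refine absurd (Subtype.ext ?_) hz1
      rw [pow_zero, orderOf_eq_one_iff] at hj
      exact hb₀z.symm.trans hj
    · exact ⟨j, hj⟩
  have hbN : NC N (b₀ ^ p ^ k) := ⟨pow_mem (hPN hb₀) _, fun h => by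
    rw [← π_eq_one_iff, map_pow] at h
    have := Nat.le_of_dvd (Nat.pow_pos (Fact.out : p.Prime).pos) (orderOf_dvd_of_pow_eq_one h)
    rw [hk] at this
    exact absurd this (not_le.2 (Nat.pow_lt_pow_right (Fact.out : p.Prime).one_lt k.lt_succ_self))⟩
  have hc := congrArg Subtype.val (Subgroup.mem_center_iff.1 hz.2
    ⟨π u, Subgroup.mem_map_of_mem _ (Subgroup.mem_sup_right (Subgroup.mem_zpowers u))⟩)
  rw [Subgroup.coe_mul, Subgroup.coe_mul, ← hb₀z] at hc
  refine D.pow_mem_center (b := b₀ ^ p ^ k) ⟨huN, fun h => hux (center_le_C x h)⟩ hbN ?_ ?_ ?_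
  · rw [map_pow]
    exact ((show Commute (π u) (π b₀) from hc).pow_right _).eq
  · intro e
    refine hux ?_
    rw [← D.comp_eq hx (hPC (pow_mem hb₀ _)) hbN, ← e]
    exact self_mem_C u
  · rw [← π_eq_one_iff, map_pow, map_pow, ← pow_mul, ← pow_succ, ← hk, pow_orderOf_eq_one]

/-- A `p`-element normalizing a component outside it has trivial norm on the `p`-part. -/
theorem Small.norm_eq_one {x q : G} {p : ℕ} [Fact p.Prime] (hx : Comp r N x) (hxp : PElt p x) (hq : PElt p q)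
    (hqN : q ∈ N) (hqC : q ∈ Subgroup.normalizer (C x : Set G)) (hqx : q ∉ C x) {h : G}
    (hh : h ∈ Pp p N x) : (π h * π q) ^ p = 1 ∧ π q ^ p = 1 := by
  haveI := D.normal
  obtain ⟨hP, hPC, hPN⟩ := D.Pp_spec hx p
  have hn : Subgroup.zpowers q ≤ Subgroup.normalizer (Pp p N x : Set G) :=
    Subgroup.zpowers_le.2 (mem_normalizer_Pp hqC)
  have hhq : PElt p (h * q) := PElt.of_mem Fact.out (hP.to_sup_of_normal_left' hq.isPGroup_zpowers hn)
    (mul_mem (Subgroup.mem_sup_left hh) (Subgroup.mem_sup_right (Subgroup.mem_zpowers q)))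
  refine ⟨?_, ?_⟩ <;> [rw [← map_mul, ← map_pow, π_eq_one_iff]; rw [← map_pow, π_eq_one_iff]]
  · refine D.pow_p_mem hx hxp hhq (mul_mem (hPN hh) hqN) (mul_mem (Subgroup.le_normalizer (hPC hh)) hqC)
      fun e => hqx ?_
    simpa using mul_mem (inv_mem (hPC hh)) e
  · exact D.pow_p_mem hx hxp hq hqN hqC hqx

theorem Small.W_eq_sylow {x : G} (hx : Comp r N x) (R1 : Sylow r G) (hR1 : T r x ≤ R1) :
    W r R1 x = R1 := by
  classical
  by_contra hne
  haveI hNn := D.normal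
  obtain ⟨t, ht, htN⟩ := D.exists_T_nc hx
  have htr := PElt.of_mem Fact.out (D.T_spec hx).1 ht
  obtain ⟨hTW, hWc⟩ := D.W_spec hx D.dvd D.ne_zero R1 hR1
  set V := (R1 : Subgroup G).map (π (G := G))
  have hV : IsPGroup r V := R1.isPGroup'.map _
  haveI : Nontrivial V := (Subgroup.nontrivial_iff_ne_bot _).2 fun e => htN.2 <| π_eq_one_iff.1 <| by
    have := Subgroup.mem_map_of_mem (π (G := G)) (hR1 ht)
    rwa [show (R1 : Subgroup G).map (π (G := G)) = ⊥ from e, Subgroup.mem_bot] at this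
  haveI := hV.center_nontrivial
  obtain ⟨c, hc⟩ := exists_ne (1 : Subgroup.center V)
  obtain ⟨z, hzR, hzc⟩ := (c : V).2
  have hzcom : ∀ g ∈ (R1 : Subgroup G), π g * π z = π z * π g := fun g hg => by
    rw [hzc]
    exact congrArg Subtype.val (Subgroup.mem_center_iff.1 c.2 ⟨π g, Subgroup.mem_map_of_mem _ hg⟩)
  have hzn : z ∉ Subgroup.center G := fun h => hc (Subtype.ext (Subtype.ext (hzc ▸ π_eq_one_iff.2 h)))
  have hzr : PElt r z := PElt.of_mem Fact.out R1.isPGroup' hzR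
  have hzN : NC N z := ⟨D.rElt_mem hzr, hzn⟩
  have hoz := D.orderOf_π hzr hzn
  have hot := D.orderOf_π htr htN.2
  have hzW : z ∈ W r R1 x := D.mem_W_of_comm hx hR1 ht htN hzR (hzcom t (hR1 ht)).symm
  have hzT : π z ∉ Subgroup.zpowers (π t) := fun h => hne <| le_antisymm inf_le_left fun g hg => by
    have e : Subgroup.zpowers (π z) = Subgroup.zpowers (π t) := Subgroup.eq_of_le_of_card_ge
      (Subgroup.zpowers_le.2 h) (by rw [Nat.card_zpowers, Nat.card_zpowers, hoz, hot])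
    obtain ⟨j, hj⟩ := e.ge (Subgroup.mem_zpowers (π t))
    refine D.mem_W_of_comm hx hR1 ht htN hg ?_
    rw [← hj]
    exact ((show Commute (π g) (π z) from hzcom g hg).zpow_right j).eq
  have hnonA : NonA r N z := by
    refine ⟨hzr, hzN, fun hA => ?_⟩
    obtain ⟨x', hx', hzT', -⟩ := D.exists_comp hzr hzN hA
    have hT'R : T r x' ≤ R1 := fun s hs => by
      obtain ⟨j, hj⟩ := D.π_T hx' hzT' hzn ▸ Subgroup.mem_map_of_mem (π (G := G)) hs
      change π z ^ j = π s at hj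
      rw [← map_zpow, π_eq_iff] at hj
      have hsr := PElt.of_mem Fact.out (D.T_spec hx').1 hs
      have hzs : (z ^ j)⁻¹ * s ∈ T r x' := mul_mem (inv_mem (Subgroup.zpow_mem _ hzT' j)) hs
      have := mul_mem (Subgroup.zpow_mem _ hzR j)
        (central_rElt_mem R1 hj (PElt.of_mem Fact.out (D.T_spec hx').1 hzs))
      rwa [mul_inv_cancel_left] at this
    have hle : (R1 : Subgroup G) ≤ W r R1 x' := fun g hg =>
      D.mem_W_of_comm hx' hT'R hzT' hzN hg (hzcom g hg)
    refine hne (Subgroup.eq_of_le_of_card_ge inf_le_left ?_)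
    rw [hWc, D.card_T x hx, ← D.card_T x' hx', ← (D.W_spec hx' D.dvd D.ne_zero R1 hT'R).2]
    exact Subgroup.card_le_of_le hle
  have hcomm : Commute (π t) (π z) := hzcom t (hR1 ht)
  -- every element of `W` is a product of powers
  have hWel : ∀ w ∈ W r R1 x, ∃ i < r, ∃ j < r, π w = π t ^ i * π z ^ j := by
    set Wb := (W r R1 x).map (π (G := G))
    have hWb : Nat.card Wb = r * r := by
      have h1 := card_eq_card_map_mul (N := W r R1 x) (V := W r R1 x) inf_le_left le_rfl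
      have e : W r R1 x ⊓ Subgroup.center G = (R : Subgroup G) ⊓ Subgroup.center G := le_antisymm
        (fun a ha => ⟨central_rElt_mem R ha.2 (PElt.of_mem Fact.out R1.isPGroup' ha.1.1), ha.2⟩)
        fun a ha => ⟨hTW (mem_T (center_le_C x ha.2) (PElt.of_mem Fact.out R.isPGroup' ha.1)), ha.2⟩
      rw [hWc, D.card_T x hx, e, ← mul_assoc] at h1
      exact (Nat.eq_of_mul_eq_mul_right Nat.card_pos h1).symm
    let f : Fin r × Fin r → Wb := fun w => ⟨π t ^ w.1.1 * π z ^ w.2.1,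
      mul_mem (pow_mem (Subgroup.mem_map_of_mem _ (hTW ht)) _) (pow_mem (Subgroup.mem_map_of_mem _ hzW) _)⟩
    have hinj : Function.Injective f := by
      rintro ⟨i, j⟩ ⟨i', j'⟩ h
      have h' : π t ^ i.1 * π z ^ j.1 = π t ^ i'.1 * π z ^ j'.1 := congrArg Subtype.val h
      have h2 : (π t ^ i'.1)⁻¹ * π t ^ i.1 = π z ^ j'.1 * (π z ^ j.1)⁻¹ := by
        rw [eq_mul_inv_iff_mul_eq, mul_assoc, h', inv_mul_cancel_left]
      have h3 : π z ^ j'.1 * (π z ^ j.1)⁻¹ = 1 := by
        by_contra hy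
        have hyz : π z ^ j'.1 * (π z ^ j.1)⁻¹ ∈ Subgroup.zpowers (π z) :=
          mul_mem (Subgroup.npow_mem_zpowers _ _) (inv_mem (Subgroup.npow_mem_zpowers _ _))
        have hyt : π z ^ j'.1 * (π z ^ j.1)⁻¹ ∈ Subgroup.zpowers (π t) :=
          h2 ▸ mul_mem (inv_mem (Subgroup.npow_mem_zpowers _ _)) (Subgroup.npow_mem_zpowers _ _)
        have hoy : orderOf (π z ^ j'.1 * (π z ^ j.1)⁻¹) = r :=
          ((Nat.dvd_prime Fact.out).1 ((orderOf_dvd_of_mem_zpowers hyz).trans (dvd_of_eq hoz))).resolve_left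
            (mt orderOf_eq_one_iff.1 hy)
        refine hzT ?_
        rw [← Subgroup.eq_of_le_of_card_ge (Subgroup.zpowers_le.2 hyt)
          (by rw [Nat.card_zpowers, Nat.card_zpowers, hoy, hot]),
          Subgroup.eq_of_le_of_card_ge (Subgroup.zpowers_le.2 hyz)
          (by rw [Nat.card_zpowers, Nat.card_zpowers, hoy, hoz])]
        exact Subgroup.mem_zpowers _
      have ej1 : j'.1 = j.1 := by
        have hA : j'.1 < orderOf (π z) := by rw [hoz]; exact j'.2
        have hB : j.1 < orderOf (π z) := by rw [hoz]; exact j.2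
        exact pow_injOn_Iio_orderOf (x := π z) hA hB (mul_inv_eq_one.1 h3)
      have ej : j = j' := Fin.ext ej1.symm
      rw [h3, inv_mul_eq_one] at h2
      have ei1 : i'.1 = i.1 := by
        have hA : i'.1 < orderOf (π t) := by rw [hot]; exact i'.2
        have hB : i.1 < orderOf (π t) := by rw [hot]; exact i.2
        exact pow_injOn_Iio_orderOf (x := π t) hA hB h2
      have ei : i = i' := Fin.ext ei1.symm
      rw [ei, ej]
    intro w hw
    haveI : Fintype Wb := Fintype.ofFinite _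
    obtain ⟨⟨i, j⟩, hij⟩ := ((Fintype.bijective_iff_injective_and_card f).2 ⟨hinj, by
      rw [Fintype.card_prod, Fintype.card_fin, ← Nat.card_eq_fintype_card, hWb]⟩).2
      ⟨π w, Subgroup.mem_map_of_mem _ hw⟩
    exact ⟨i, i.2, j, j.2, (congrArg Subtype.val hij).symm⟩
  -- the lines of `W` other than that of `z` belong to components
  obtain ⟨k, hkR, hkW, hkn⟩ := exists_normalizing R1.isPGroup' (inf_le_left : W r R1 x ≤ R1) hne
  obtain ⟨a, -, b, -, hk⟩ := hWel _ ((Subgroup.mem_normalizer_iff.1 hkn t).1 (hTW ht))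
  simp only [map_mul, map_inv] at hk
  have hk' : ∀ n : ℕ, ∃ e : ℕ, π k ^ n * π t * (π k ^ n)⁻¹ = π t ^ (a ^ n) * π z ^ e := by
    intro n
    induction n with
    | zero => exact ⟨0, by simp⟩
    | succ n ih =>
      obtain ⟨e, he⟩ := ih
      refine ⟨b * a ^ n + e, ?_⟩
      calc π k ^ (n + 1) * π t * (π k ^ (n + 1))⁻¹ = π k * (π k ^ n * π t * (π k ^ n)⁻¹) * (π k)⁻¹ := by
            rw [pow_succ']; group
        _ = (π k * π t * (π k)⁻¹) ^ (a ^ n) * (π k * π z * (π k)⁻¹) ^ e := by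
            rw [he, conj_pow, conj_pow]; group
        _ = _ := by
            rw [hk, hzcom k hkR, mul_inv_cancel_right, ((hcomm.pow_left a).pow_right b).mul_pow, ← pow_mul,
              ← pow_mul, mul_assoc, ← pow_add, ← pow_succ']
  have ha1 : π t ^ a = π t := by
    obtain ⟨e, he⟩ := hk' r
    rw [D.pow_r (PElt.of_mem Fact.out R1.isPGroup' hkR)] at he
    simp only [one_mul, inv_one, mul_one] at he
    rcases eq_or_ne (π z ^ e) 1 with h0 | h0
    · rw [h0, mul_one] at he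
      have h2 : π t ^ 1 = π t ^ (a ^ r) := by rw [pow_one]; exact he
      rw [pow_eq_pow_iff_modEq, hot, ← ZMod.natCast_eq_natCast_iff, Nat.cast_pow, ZMod.pow_card,
        ZMod.natCast_eq_natCast_iff, ← hot, ← pow_eq_pow_iff_modEq, pow_one] at h2
      exact h2.symm
    · exfalso
      have h1 : π z ^ e ∈ Subgroup.zpowers (π t) := by
        have : π z ^ e = (π t ^ a ^ r)⁻¹ * π t := by rw [eq_inv_mul_iff_mul_eq]; exact he.symm
        rw [this]
        exact mul_mem (inv_mem (Subgroup.npow_mem_zpowers _ _)) (Subgroup.mem_zpowers _)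
      have ho : orderOf (π z ^ e) = r := orderOf_eq_prime (by
        rw [← pow_mul, mul_comm, pow_mul, D.pow_r hzr, one_pow]) h0
      refine hzT ?_
      rw [← Subgroup.eq_of_le_of_card_ge (Subgroup.zpowers_le.2 h1)
        (by rw [Nat.card_zpowers, Nat.card_zpowers, ho, hot]),
        Subgroup.eq_of_le_of_card_ge (Subgroup.zpowers_le.2 (Subgroup.npow_mem_zpowers _ e))
        (by rw [Nat.card_zpowers, Nat.card_zpowers, ho, hoz])]
      exact Subgroup.mem_zpowers _
  rw [ha1] at hk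
  have hb0 : (b : ZMod r) ≠ 0 := fun e => hkW <| D.mem_W_of_comm hx hR1 ht htN hkR <| by
    rw [CharP.cast_eq_zero_iff (ZMod r) r] at e
    obtain ⟨q, rfl⟩ := e
    rw [pow_mul, D.pow_r hzr, one_pow, mul_one, mul_inv_eq_iff_eq_mul] at hk
    exact hk
  have hAW : ∀ w ∈ W r R1 x, ∀ i j : ℕ, π w = π t ^ i * π z ^ j → π t ^ i ≠ 1 → AType r N w := by
    intro w hw i j hwe hi
    have hi0 : (i : ZMod r) ≠ 0 := fun e => hi <| by
      rw [CharP.cast_eq_zero_iff (ZMod r) r] at e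
      obtain ⟨q, rfl⟩ := e
      rw [pow_mul, D.pow_r htr, one_pow]
    set n := ((j : ZMod r) / ((b : ZMod r) * i)).val with hn
    have hnj : (n * b * i : ZMod r) = j := by
      rw [hn, ZMod.natCast_zmod_val, mul_assoc, div_mul_cancel₀ _ (mul_ne_zero hb0 hi0)]
    have hconj : ∀ n : ℕ, π k ^ n * π t * (π k ^ n)⁻¹ = π t * π z ^ (n * b) := by
      intro n
      induction n with
      | zero => simp
      | succ n ih =>
        calc π k ^ (n + 1) * π t * (π k ^ (n + 1))⁻¹ = π k * (π k ^ n * π t * (π k ^ n)⁻¹) * (π k)⁻¹ := by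
              rw [pow_succ']; group
          _ = (π k * π t * (π k)⁻¹) * (π k * π z * (π k)⁻¹) ^ (n * b) := by rw [ih, conj_pow]; group
          _ = _ := by rw [hk, hzcom k hkR, mul_inv_cancel_right, mul_assoc, ← pow_add]; ring_nf
    have e : π (k ^ n * t ^ i * (k ^ n)⁻¹) = π w := by
      rw [hwe, map_mul, map_mul, map_inv, map_pow, map_pow, ← conj_pow, hconj, (hcomm.pow_right _).mul_pow,
        ← pow_mul]
      congr 1
      rw [pow_eq_pow_iff_modEq, hoz, ← ZMod.natCast_eq_natCast_iff]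
      push_cast
      exact hnj
    have hA : AType r N (t ^ i) := ⟨x, hx, pow_mem (T_le r x ht) i⟩
    exact AType_of_π_eq (D.AType_conj hA _) e
  -- a mover
  obtain ⟨hxN, p, hp, hpr, hxp⟩ := id hx
  haveI := Fact.mk hp
  obtain ⟨hPp, hPpC, hPpN⟩ := D.Pp_spec hx p
  have hxPp : x ∈ Pp p N x := Subgroup.subset_closure ⟨self_mem_C x, hxN.1, hxp⟩
  obtain ⟨P, hP⟩ := (hPp.of_equiv (Subgroup.subgroupOfEquivOfLe hPpN).symm).exists_le_sylow
  set PN := (P : Subgroup N).map N.subtype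
  have hPPN : Pp p N x ≤ PN := fun y hy => ⟨⟨y, hPpN hy⟩, hP (Subgroup.mem_subgroupOf.2 hy), rfl⟩
  by_cases hPC : PN ≤ C x
  · exact D.absurd_full hnonA hx P hPC (hPPN hxPp)
  obtain ⟨g0, hg0P, hg0V, hg0n⟩ := exists_normalizing (P.isPGroup'.map _ : IsPGroup p PN)
    (inf_le_left : PN ⊓ C x ≤ PN) (fun e => hPC (inf_eq_left.1 e))
  have hg0x : g0 ∉ C x := fun h => hg0V ⟨hg0P, h⟩
  have hg0N : g0 ∈ N := Subgroup.map_subtype_le _ hg0P
  have hg0C : g0 ∈ Subgroup.normalizer (C x : Set G) := by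
    have hmem := (Subgroup.mem_normalizer_iff.1 hg0n x).1 ⟨hPPN hxPp, self_mem_C x⟩
    have e := D.comp_eq hx hmem.2 (D.NC_conj hxN g0)
    rw [Subgroup.mem_normalizer_iff]
    intro y
    conv_rhs => rw [← e, mem_C_conj]
    simp [mul_assoc]
  obtain ⟨u, hu, huN, huC, huW, hux, -⟩ :=
    D.exists_mover hx hR1 ht htN hp hpr (PElt.of_mem hp (P.isPGroup'.map _) hg0P) hg0N hg0C hg0x
  have huc : u ∉ Subgroup.center G := fun h => hux (center_le_C x h)
  obtain ⟨i, -, j, -, huz⟩ := hWel _ ((Subgroup.mem_normalizer_iff.1 huW z).1 hzW)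
  have hi : π t ^ i = 1 := by
    by_contra hi
    refine hnonA.2.2 ?_
    have := D.AType_conj (hAW _ ((Subgroup.mem_normalizer_iff.1 huW z).1 hzW) i j huz hi) u⁻¹
    simpa [mul_assoc] using this
  rw [hi, one_mul] at huz
  simp only [map_mul, map_inv] at huz
  have hj : π z ^ j ≠ π z := fun e => by
    rw [e, mul_inv_eq_iff_eq_mul] at huz
    refine hnonA.2.2 ⟨u, ⟨⟨huN, huc⟩, p, hp, hpr, hu⟩, ?_⟩
    exact mem_C_of_π huz.symm (hzr.coprime Fact.out (PElt.not_dvd Fact.out hp hpr hu))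
  -- the action
  set M := (Pp p N x).map (π (G := G))
  have hMcom : ∀ a c : M, a * c = c * a := by
    rintro ⟨_, a, ha, rfl⟩ ⟨_, c, hc', rfl⟩
    exact Subtype.ext (by
      show π a * π c = π c * π a
      rw [← map_mul, ← map_mul, D.comm hx (hPpC ha) (hPpC hc') (hPpN hc')])
  let instM : CommGroup M := { (inferInstance : Group M) with mul_comm := hMcom }
  have hnorm : ∀ g ∈ Subgroup.normalizer (C x : Set G), π g ∈ Subgroup.normalizer (M : Set (G ⧸ Subgroup.center G)) := by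
    intro g hg
    have aux : ∀ k ∈ Subgroup.normalizer (C x : Set G), ∀ y ∈ M, π k * y * (π k)⁻¹ ∈ M := by
      rintro k hk _ ⟨y, hy, rfl⟩
      exact ⟨k * y * k⁻¹, (Subgroup.mem_normalizer_iff.1 (mem_normalizer_Pp hk) y).1 hy,
        by simp [map_mul, map_inv]⟩
    rw [Subgroup.mem_normalizer_iff]
    refine fun y => ⟨aux g hg y, fun h => ?_⟩
    have := aux g⁻¹ (inv_mem hg) _ h
    simpa [mul_assoc, map_inv] using this
  have hzC := D.mem_normalizer_C hx hzW.2
  set ρ := Subgroup.normalizerMonoidHom M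
  have hval : ∀ (g : Subgroup.normalizer (M : Set (G ⧸ Subgroup.center G))) (v : M),
      ((ρ g v : M) : G ⧸ Subgroup.center G) = g.1 * v * g.1⁻¹ := fun g v => rfl
  set ν : Subgroup.normalizer (M : Set (G ⧸ Subgroup.center G)) := ⟨π u, hnorm u huC⟩
  set ζ : Subgroup.normalizer (M : Set (G ⧸ Subgroup.center G)) := ⟨π z, hnorm z hzC⟩
  have hζo : orderOf ζ = r := by rw [← hoz, ← Subgroup.orderOf_coe]
  have key := norm_lemma (M := M) ρ (ν := ν) (ζ := ζ) (b := j) hp
    (Subtype.ext (D.norm_eq_one hx hxp hu huN huC hux hxPp).2) hζo (Subtype.ext huz)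
    (fun e => hj (congrArg Subtype.val e)) ?_ ?_ ⟨π x, Subgroup.mem_map_of_mem _ hxPp⟩
  · have h1 := congrArg Subtype.val key
    simp only [SubmonoidClass.coe_pow, OneMemClass.coe_one] at h1
    rw [← map_pow, π_eq_one_iff] at h1
    have hxc : (orderOf x).Coprime r := by
      obtain ⟨e, he⟩ := hxp
      rw [he]
      exact ((Nat.coprime_primes hp Fact.out).2 hpr).pow_left e
    refine hxN.2 (mem_center_of_coprime_pow (k := orderOf x) ?_ h1 hxc)
    rw [pow_orderOf_eq_one]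
    exact one_mem _
  · intro v
    set w := ∏ i : ZMod r, ρ (ζ ^ i.val) v
    have hfix : ρ ζ w = w := by
      rw [map_prod]
      refine Fintype.prod_equiv (Equiv.addRight 1) _ _ fun i => ?_
      rw [← MulAut.mul_apply, ← map_mul, Equiv.coe_addRight, ← pow_succ', ZMod.val_add, ZMod.val_one,
        (congrArg (fun n => ζ ^ ((i.val + 1) % n)) hζo.symm).trans (pow_mod_orderOf _ _)]
    obtain ⟨y, hy, hyw⟩ := w.2
    have e : π z * π y * (π z)⁻¹ = π y := by
      rw [hyw]; exact (hval ζ w).symm.trans (congrArg Subtype.val hfix)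
    rw [mul_inv_eq_iff_eq_mul] at e
    refine Subtype.ext (hyw.symm.trans (π_eq_one_iff.2 ?_))
    by_contra hyc
    have hzy : z ∈ C y := mem_C_of_π e
      (hzr.coprime Fact.out (PElt.not_dvd Fact.out hp hpr (PElt.of_mem hp hPp hy)))
    rw [D.comp_eq hx (hPpC hy) ⟨hPpN hy, hyc⟩] at hzy
    exact hzT (D.π_T hx ht htN.2 ▸ Subgroup.mem_map_of_mem _ (mem_T hzy hzr))
  · intro i v
    obtain ⟨y, hy, hyv⟩ := v.2
    have hq : PElt p (z ^ i.val * u * (z ^ i.val)⁻¹) := hu.conj _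
    have hqC : z ^ i.val * u * (z ^ i.val)⁻¹ ∈ Subgroup.normalizer (C x : Set G) :=
      mul_mem (mul_mem (pow_mem hzC _) huC) (inv_mem (pow_mem hzC _))
    have hqx : z ^ i.val * u * (z ^ i.val)⁻¹ ∉ C x := fun h => hux
      ((Subgroup.mem_normalizer_iff.1 (pow_mem hzC i.val) u).2 h)
    obtain ⟨h1, h2⟩ := D.norm_eq_one hx hxp hq (D.conj_mem_N huN _) hqC hqx hy
    set Q := ζ ^ i.val * ν * (ζ ^ i.val)⁻¹
    have hQ : (Q : G ⧸ Subgroup.center G) = π (z ^ i.val * u * (z ^ i.val)⁻¹) := by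
      simp [Q, ν, ζ, map_mul, map_inv, map_pow]
    have hpow : ∀ n : ℕ, (π y * π (z ^ i.val * u * (z ^ i.val)⁻¹)) ^ n =
        ((∏ l ∈ Finset.range n, ρ (Q ^ l) v : M) : G ⧸ Subgroup.center G) *
          π (z ^ i.val * u * (z ^ i.val)⁻¹) ^ n := by
      intro n
      induction n with
      | zero => simp
      | succ n ih =>
        rw [pow_succ, ih, Finset.prod_range_succ, Subgroup.coe_mul, hval, SubmonoidClass.coe_pow, hQ, hyv, pow_succ]
        group
    have h3 := hpow p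
    rw [h1, h2, mul_one] at h3
    exact Subtype.ext h3.symm

end CfsgLib.TwoSizesNormal
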