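import Cfsg.Agent.TwoSizesNormal.Small

/-!
The normalizer of a component inside `N`; an element without component forces every component to have
proper `p`-part.
-/

set_option autoImplicit false

namespace CfsgLib.TwoSizesNormal

open OneMMN

variable {G : Type*} [Group G] {r : ℕ} {N : Subgroup G} {R : Sylow r G} {m : ℕ}
variable [Finite G] [Fact r.Prime] (D : Small r N R m)
include D

theorem Small.mem_W_of_comm {x t g : G} (hx : Comp r N x) {R1 : Sylow r G} (hR1 : T r x ≤ R1)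
    (ht : t ∈ T r x) (htN : NC N t) (hg : g ∈ (R1 : Subgroup G)) (hc : π g * π t = π t * π g) :
    g ∈ W r R1 x := by
  have aux : ∀ u ∈ (R1 : Subgroup G), π u * π t = π t * π u → ∀ s ∈ T r x, u * s * u⁻¹ ∈ T r x := by
    intro u hu hut s hs
    have hps : π s ∈ Subgroup.zpowers (π t) := D.π_T hx ht htN.2 ▸ Subgroup.mem_map_of_mem _ hs
    obtain ⟨k, hk⟩ := hps
    have hcs : π u * π s = π s * π u := by
      rw [← hk]; exact ((show Commute (π u) (π t) from hut).zpow_right k).eq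
    have hz : s⁻¹ * (u * s * u⁻¹) ∈ Subgroup.center G := by
      rw [← π_eq_iff, map_mul, map_mul, map_inv, hcs, mul_inv_cancel_right]
    have hzr : PElt r (s⁻¹ * (u * s * u⁻¹)) := PElt.of_mem Fact.out R1.isPGroup'
      (mul_mem (inv_mem (hR1 hs)) (mul_mem (mul_mem hu (hR1 hs)) (inv_mem hu)))
    simpa [mul_assoc] using mul_mem hs (mem_T (r := r) (center_le_C x hz) hzr)
  refine ⟨hg, Subgroup.mem_normalizer_iff.2 fun s => ⟨aux g hg hc s, fun h => ?_⟩⟩
  have hc' : π g⁻¹ * π t = π t * π g⁻¹ := by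
    rw [map_inv]; exact (show Commute (π g) (π t) from hc).inv_left.eq
  simpa [mul_assoc] using aux g⁻¹ (inv_mem hg) hc' _ h

theorem Small.exists_comp {g : G} (hgr : PElt r g) (hgN : NC N g) (hA : AType r N g) :
    ∃ x, Comp r N x ∧ g ∈ T r x ∧ C g = C x := by
  obtain ⟨x, hx, hgx⟩ := hA
  exact ⟨x, hx, mem_T hgx hgr, D.comp_eq hx hgx hgN⟩

theorem Small.AType_conj {g : G} (h : AType r N g) (k : G) : AType r N (k * g * k⁻¹) := by
  obtain ⟨x, hx, hgx⟩ := h
  exact ⟨k * x * k⁻¹, D.Comp_conj hx k, mem_C_conj.2 (by simpa [mul_assoc] using hgx)⟩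

omit D [Finite G] [Fact r.Prime] in
theorem AType_of_π_eq {g g' : G} (h : AType r N g) (e : π g = π g') : AType r N g' := by
  obtain ⟨x, hx, hgx⟩ := h
  refine ⟨x, hx, ?_⟩
  have := mul_mem hgx (center_le_C x (π_eq_iff.1 e))
  rwa [mul_inv_cancel_left] at this

/-- An element without component and a component whose `p`-part is a Sylow subgroup of `N`. -/
theorem Small.absurd_full {g x : G} (hg : NonA r N g) (hx : Comp r N x) {p : ℕ} [Fact p.Prime]
    (P : Sylow p N) (hP : (P : Subgroup N).map N.subtype ≤ C x) (hxP : x ∈ (P : Subgroup N).map N.subtype) :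
    False := by
  haveI := D.normal
  set L := Subgroup.normalizer (((P : Subgroup N).map N.subtype : Subgroup G) : Set G)
  obtain ⟨t, ht, htN⟩ := D.exists_T_nc hx
  have htr := PElt.of_mem Fact.out (D.T_spec hx).1 ht
  have hLT : ∀ l ∈ L, l ∈ Subgroup.normalizer (T r x : Set G) := by
    intro l hl
    refine mem_normalizer_T (Subgroup.mem_normalizer_iff.2 fun y => ?_)
    have hlx := (Subgroup.mem_normalizer_iff.1 hl x).1 hxP
    have e := D.comp_eq hx (hP hlx) (D.NC_conj hx.1 l)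
    conv_rhs => rw [← e, mem_C_conj]
    simp [mul_assoc]
  refine D.absurd_of_bound hg hx L ?_ (fun l i => π (l * t * l⁻¹) = π t ^ i) ?_ ?_
  · rintro _ ⟨a, -, rfl⟩
    have ha : a ∈ L ⊔ N := (Sylow.normalizer_sup_eq_top P).ge (Subgroup.mem_top a)
    rw [← SetLike.mem_coe, Subgroup.mul_normal] at ha
    obtain ⟨l, hl, n, hn, rfl⟩ := Set.mem_mul.1 ha
    exact ⟨l, hl, by rw [map_mul, show QuotientGroup.mk' N n = 1 from (QuotientGroup.eq_one_iff n).2 hn, mul_one]⟩
  · intro l hl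
    have hlt := (Subgroup.mem_normalizer_iff.1 (hLT l hl) t).1 ht
    obtain ⟨i, hi, e⟩ := exists_pow_eq_of_prime (D.pow_r htr) (Fact.out : r.Prime).pos
      (D.π_T hx ht htN.2 ▸ Subgroup.mem_map_of_mem π hlt)
    refine ⟨i, fun h0 => ?_, hi, e⟩
    rw [h0, pow_zero, π_eq_one_iff, conj_mem_center] at e
    exact htN.2 e
  · intro l _ l' _ i hi hi'
    refine D.mk_mem_of_fix hx ht htN ?_
    have e := hi'.trans hi.symm
    simp only [map_mul, map_inv] at e ⊢
    calc (π l)⁻¹ * π l' * π t = (π l)⁻¹ * (π l' * π t * (π l')⁻¹) * π l' := by group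
      _ = (π l)⁻¹ * (π l * π t * (π l)⁻¹) * π l' := by rw [e]
      _ = _ := by group

/-- An element normalizing a component outside it can be moved to normalize `W` and act on `T`. -/
theorem Small.exists_mover {x t n : G} (hx : Comp r N x) {R1 : Sylow r G} (hR1 : T r x ≤ R1)
    (ht : t ∈ T r x) (htN : NC N t) {q : ℕ} (hq : q.Prime) (hqr : q ≠ r) (hn : PElt q n) (hnN : n ∈ N)
    (hnC : n ∈ Subgroup.normalizer (C x : Set G)) (hnx : n ∉ C x) :
    ∃ u, PElt q u ∧ u ∈ N ∧ u ∈ Subgroup.normalizer (C x : Set G) ∧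
      u ∈ Subgroup.normalizer (W r R1 x : Set G) ∧ u ∉ C x ∧ π u * π t ≠ π t * π u := by
  haveI := D.normal
  set L := N ⊓ Subgroup.normalizer (C x : Set G) with hLdef
  set K := (Subgroup.centralizer ({π t} : Set (G ⧸ Subgroup.center G))).comap (π (G := G))
  have hmemK : ∀ k, k ∈ K ↔ π k * π t = π t * π k := fun k => by
    rw [Subgroup.mem_comap, Subgroup.mem_centralizer_singleton_iff]
  haveI hKn : (K.subgroupOf L).Normal := by
    constructor
    intro k hk l
    rw [Subgroup.mem_subgroupOf, hmemK] at hk ⊢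
    have hlt : (l : G)⁻¹ * t * (l : G) ∈ T r x := by
      have := (Subgroup.mem_normalizer_iff.1 (mem_normalizer_T (r := r) (inv_mem l.2.2)) t).1 ht
      simpa using this
    obtain ⟨j, hj⟩ : π ((l : G)⁻¹ * t * (l : G)) ∈ Subgroup.zpowers (π t) :=
      D.π_T hx ht htN.2 ▸ Subgroup.mem_map_of_mem _ hlt
    have hk2 : π (k : G) * π ((l : G)⁻¹ * t * (l : G)) = π ((l : G)⁻¹ * t * (l : G)) * π (k : G) := by
      rw [← hj]; exact ((show Commute (π (k : G)) (π t) from hk).zpow_right j).eq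
    simp only [map_mul, map_inv, Subgroup.coe_mul, Subgroup.coe_inv] at hk2 ⊢
    calc π (l : G) * π (k : G) * (π (l : G))⁻¹ * π t
        = π (l : G) * (π (k : G) * ((π (l : G))⁻¹ * π t * π (l : G))) * (π (l : G))⁻¹ := by group
      _ = π (l : G) * (((π (l : G))⁻¹ * π t * π (l : G)) * π (k : G)) * (π (l : G))⁻¹ := by rw [hk2]
      _ = _ := by group
  obtain ⟨hTW, hWc⟩ := D.W_spec hx D.dvd D.ne_zero R1 hR1
  have hWL : W r R1 x ≤ L := le_inf (D.rSub_le (R1.isPGroup'.to_le inf_le_left))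
    fun g hg => D.mem_normalizer_C hx hg.2
  let S : Sylow r L :=
    { (W r R1 x).subgroupOf L with
      isPGroup' := (R1.isPGroup'.to_le inf_le_left : IsPGroup r (W r R1 x)).of_equiv
        (Subgroup.subgroupOfEquivOfLe hWL).symm
      is_maximal' := fun {Q} hQ hle => by
        set V := Q.map L.subtype
        have hWV : W r R1 x ≤ V := fun w hw => ⟨⟨w, hWL hw⟩, hle (Subgroup.mem_subgroupOf.2 hw), rfl⟩
        have hVn : V ≤ Subgroup.normalizer (T r x : Set G) := by
          rintro _ ⟨v, -, rfl⟩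
          exact mem_normalizer_T v.2.2
        have h1 := D.card_W_le hx (hQ.map _) (hTW.trans hWV) hVn
        rw [← hWc] at h1
        have e := Subgroup.eq_of_le_of_card_ge hWV h1
        refine le_antisymm (fun v hv => Subgroup.mem_subgroupOf.2 (e.ge ⟨v, hv, rfl⟩)) hle }
  have hWK : W r R1 x ≤ K := by
    intro w hw
    obtain ⟨b, hb, hbN, -, hfix⟩ := D.exists_fixed hx (R1.isPGroup'.to_le inf_le_left) hTW inf_le_right
    have hts : π t ∈ Subgroup.zpowers (π b) := D.π_T hx hb hbN.2 ▸ Subgroup.mem_map_of_mem _ ht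
    obtain ⟨j, hj⟩ := hts
    rw [hmemK, ← hj]
    exact ((show Commute (π w) (π b) from hfix w hw).zpow_right j).eq
  have hfr := Sylow.normalizer_sup_eq_top' (N := K.subgroupOf L) S
    (fun w hw => Subgroup.mem_subgroupOf.2 (hWK (Subgroup.mem_subgroupOf.1 hw)))
  have hnm : (⟨n, hnN, hnC⟩ : L) ∈ Subgroup.normalizer ((S : Subgroup L) : Set L) ⊔ K.subgroupOf L :=
    hfr.ge (Subgroup.mem_top _)
  rw [← SetLike.mem_coe, Subgroup.mul_normal] at hnm
  obtain ⟨s, hs, k, hk, hsk⟩ := Set.mem_mul.1 hnm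
  have hnK : n ∉ K := fun h => hnx <| by
    rw [← D.comp_eq hx (T_le r x ht) htN]
    exact mem_C_of_π ((hmemK n).1 h) ((PElt.of_mem Fact.out (D.T_spec hx).1 ht).coprime Fact.out
      (PElt.not_dvd Fact.out hq hqr hn)).symm
  have hsn : (s : G) * (k : G) = n := congrArg Subtype.val hsk
  obtain ⟨a, b, hab, -, ha, hb, haz, hbz⟩ := split hq (s : G)
  have hsW : (s : G) ∈ Subgroup.normalizer (W r R1 x : Set G) := by
    rw [Subgroup.mem_normalizer_iff]
    intro y
    constructor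
    · intro hy
      exact Subgroup.mem_subgroupOf.1
        ((Subgroup.mem_normalizer_iff.1 hs ⟨y, hWL hy⟩).1 (Subgroup.mem_subgroupOf.2 hy))
    · intro hy
      have hyL : y ∈ L := by
        have := mul_mem (mul_mem (inv_mem s.2) (hWL hy)) s.2
        simpa [mul_assoc] using this
      exact Subgroup.mem_subgroupOf.1
        ((Subgroup.mem_normalizer_iff.1 hs ⟨y, hyL⟩).2 (Subgroup.mem_subgroupOf.2 hy))
  have haK : a ∉ K := by
    intro haK
    set f := QuotientGroup.mk' (K.subgroupOf L)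
    have e1 : f ⟨n, hnN, hnC⟩ = f s := by
      rw [← hsk, map_mul, show f k = 1 from (QuotientGroup.eq_one_iff k).2 hk, mul_one]
    have haL : a ∈ L := Subgroup.zpowers_le.2 s.2 haz
    have hbL : b ∈ L := Subgroup.zpowers_le.2 s.2 hbz
    have e2 : f s = f ⟨b, hbL⟩ := by
      rw [show s = ⟨a, haL⟩ * ⟨b, hbL⟩ from Subtype.ext hab, map_mul,
        show f ⟨a, haL⟩ = 1 from (QuotientGroup.eq_one_iff (⟨a, haL⟩ : L)).2 haK, one_mul]
    have h1 : orderOf (f ⟨n, hnN, hnC⟩) ∣ orderOf n :=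
      (orderOf_map_dvd f _).trans (dvd_of_eq (Subgroup.orderOf_mk n _))
    have h2 : orderOf (f ⟨n, hnN, hnC⟩) ∣ orderOf b := by
      rw [e1, e2]; exact (orderOf_map_dvd f _).trans (dvd_of_eq (Subgroup.orderOf_mk b _))
    have h3 := Nat.dvd_gcd h1 h2
    rw [hn.coprime hq hb] at h3
    exact hnK ((QuotientGroup.eq_one_iff (⟨n, hnN, hnC⟩ : L)).1 (orderOf_eq_one_iff.1 (Nat.dvd_one.1 h3)))
  have haL : a ∈ L := Subgroup.zpowers_le.2 s.2 haz
  refine ⟨a, ha, haL.1, haL.2, Subgroup.zpowers_le.2 hsW haz, fun h => haK ?_, fun h => haK ((hmemK a).2 h)⟩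
  rw [hmemK, ← map_mul, ← map_mul, D.comm hx h (T_le r x ht) htN.1]

end CfsgLib.TwoSizesNormal
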