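import Cfsg.Agent.TwoSizesNormal.Count

/-!
Counting the noncentral elements of `N` modulo the centre by components.
-/

set_option autoImplicit false

namespace CfsgLib.TwoSizesNormal

open OneMMN

variable {G : Type*} [Group G] {r : ℕ} {N : Subgroup G} {R : Sylow r G} {m : ℕ}

/-- Components, given by their centralizers. -/
def IsComp (r : ℕ) (N : Subgroup G) (B : Subgroup G) : Prop := ∃ x, Comp r N x ∧ B = C x

/-- The component modulo the centre. -/
def Abar (N B : Subgroup G) : Subgroup (G ⧸ Subgroup.center G) := (B ⊓ N).map π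

/-- The normalizer of a component in `N`, modulo the centre. -/
def Lbar (N B : Subgroup G) : Subgroup (G ⧸ Subgroup.center G) := (N ⊓ Subgroup.normalizer (B : Set G)).map π

variable [Finite G] [Fact r.Prime] (D : Small r N R m)
include D

theorem Small.isComp_conj {B : Subgroup G} (hB : IsComp r N B) (g : G) :
    IsComp r N (B.map (MulAut.conj g).toMonoidHom) := by
  obtain ⟨x, hx, rfl⟩ := hB
  exact ⟨g * x * g⁻¹, D.Comp_conj hx g, (C_conj g x).symm⟩

omit [Fact r.Prime] in
theorem Small.card_Abar_conj (B : Subgroup G) (g : G) :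
    Nat.card (Abar N (B.map (MulAut.conj g).toMonoidHom)) = Nat.card (Abar N B) := by
  have hNg : N.map (MulAut.conj g).toMonoidHom = N := by
    refine le_antisymm ?_ fun n hn => ⟨g⁻¹ * n * g, by simpa using D.conj_mem_N hn g⁻¹, by simp [mul_assoc]⟩
    rintro _ ⟨n, hn, rfl⟩
    exact D.conj_mem_N hn g
  have e : B.map (MulAut.conj g).toMonoidHom ⊓ N = (B ⊓ N).map (MulAut.conj g).toMonoidHom := by
    rw [Subgroup.map_inf _ _ _ (MulAut.conj g).injective, hNg]
  have hc : (π (G := G)).comp (MulAut.conj g).toMonoidHom = (MulAut.conj (π g)).toMonoidHom.comp π := by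
    ext a
    simp
  rw [Abar, Abar, e, Subgroup.map_map, hc, ← Subgroup.map_map,
    Subgroup.card_map_of_injective (MulAut.conj (π g)).injective]

theorem Small.mem_comp {n : G} (hn : NC N n) : ∃ x, Comp r N x ∧ n ∈ C x := by
  obtain ⟨q, hq, b, hb, hbq, hbc⟩ : ∃ q, q.Prime ∧ ∃ b ∈ Subgroup.zpowers n, PElt q b ∧ b ∉ Subgroup.center G := by
    by_contra h
    push Not at h
    exact hn.2 (le_of_pElts (A := Subgroup.center G) (fun q hq b hb hbq => h q hq b hb hbq) (Subgroup.mem_zpowers n))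
  have hbN : NC N b := ⟨Subgroup.zpowers_le.2 hn.1 hb, hbc⟩
  have hnb : n ∈ C b := C_le_of_mem_zpowers hb (self_mem_C n)
  by_cases hqr : q = r
  · subst hqr
    obtain ⟨x, hx, hbx⟩ := D.all_AType hbq hbN
    exact ⟨x, hx, D.comp_eq hx hbx hbN ▸ hnb⟩
  · exact ⟨b, ⟨hbN, q, hq, hqr, hbq⟩, hnb⟩

omit D [Finite G] [Fact r.Prime] in
theorem sum_biUnion_le {α β : Type*} [DecidableEq β] (S : Finset α) (t : α → Finset β) (f : β → ℕ) :
    ∑ b ∈ S.biUnion t, f b ≤ ∑ a ∈ S, ∑ b ∈ t a, f b := by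
  classical
  induction S using Finset.induction_on with
  | empty => simp
  | insert a S ha ih =>
    rw [Finset.biUnion_insert, Finset.sum_insert ha]
    have := Finset.sum_union_inter (s₁ := t a) (s₂ := S.biUnion t) (f := f)
    omega

open scoped Classical in
/-- The components. -/
noncomputable def comps (r : ℕ) (N : Subgroup G) [Finite G] : Finset (Subgroup G) :=
  (Set.toFinite {B : Subgroup G | IsComp r N B}).toFinset

omit D [Fact r.Prime] in
theorem mem_comps {B : Subgroup G} : B ∈ comps r N ↔ IsComp r N B := Set.Finite.mem_toFinset _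

open scoped Classical in
theorem Small.count : Nat.card (N.map (π (G := G))) - 1 = ∑ B ∈ comps r N, (Nat.card (Abar N B) - 1) := by
  haveI := Fintype.ofFinite (G ⧸ Subgroup.center G)
  set Nb := N.map (π (G := G))
  have hcard : ∀ K : Subgroup (G ⧸ Subgroup.center G),
      ((Finset.univ.filter fun q => q ∈ K).erase 1).card = Nat.card K - 1 := by
    intro K
    rw [Finset.card_erase_of_mem (by simp), Nat.card_eq_fintype_card,
      ← Fintype.card_subtype (fun q => q ∈ K)]
  rw [← hcard Nb, ← Finset.sum_congr rfl fun B _ => hcard (Abar N B), ← Finset.card_biUnion]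
  · congr 1
    ext q
    simp only [Finset.mem_erase, Finset.mem_filter, Finset.mem_univ, true_and, Finset.mem_biUnion, mem_comps]
    constructor
    · rintro ⟨hq1, n, hn, rfl⟩
      obtain ⟨x, hx, hnx⟩ := D.mem_comp ⟨hn, fun h => hq1 (π_eq_one_iff.2 h)⟩
      exact ⟨C x, ⟨x, hx, rfl⟩, hq1, n, ⟨hnx, hn⟩, rfl⟩
    · rintro ⟨B, -, hq1, n, hn, rfl⟩
      exact ⟨hq1, n, hn.2, rfl⟩
  · intro B hB B' hB' hne
    rw [Function.onFun, Finset.disjoint_left]
    intro q hq hq'
    simp only [Finset.mem_erase, Finset.mem_filter, Finset.mem_univ, true_and] at hq hq'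
    rw [Finset.mem_coe, mem_comps] at hB hB'
    obtain ⟨x, hx, rfl⟩ := hB
    obtain ⟨x', hx', rfl⟩ := hB'
    obtain ⟨hq1, n, hn, rfl⟩ := hq
    obtain ⟨-, n', hn', e⟩ := hq'
    have hnc : n ∉ Subgroup.center G := fun h => hq1 (π_eq_one_iff.2 h)
    have hn'c : n' ∉ Subgroup.center G := fun h => hq1 (e ▸ π_eq_one_iff.2 h)
    refine hne ?_
    rw [← D.comp_eq hx hn.1 ⟨hn.2, hnc⟩, ← D.comp_eq hx' hn'.1 ⟨hn'.2, hn'c⟩,
      ← C_mul_central (x := n') (π_eq_iff.1 e), mul_inv_cancel_left]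

open scoped Classical in
/-- The components conjugate to `B` under `N`. -/
noncomputable def orb (r : ℕ) (N : Subgroup G) [Finite G] (B : Subgroup G) : Finset (Subgroup G) :=
  (comps r N).filter fun B' => ∃ g ∈ N, B' = B.map (MulAut.conj g).toMonoidHom

omit [Fact r.Prime] in
theorem Small.map_conj_eq_iff {B : Subgroup G} (g h : G) :
    B.map (MulAut.conj g).toMonoidHom = B.map (MulAut.conj h).toMonoidHom ↔
      g⁻¹ * h ∈ Subgroup.normalizer (B : Set G) := by
  constructor
  · intro e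
    rw [Subgroup.mem_normalizer_iff]
    intro y
    have e1 : ∀ z, z ∈ B.map (MulAut.conj g).toMonoidHom ↔ g⁻¹ * z * g ∈ B := fun z => by
      rw [Subgroup.mem_map_equiv, MulAut.conj_symm_apply]
    have e2 : ∀ z, z ∈ B.map (MulAut.conj h).toMonoidHom ↔ h⁻¹ * z * h ∈ B := fun z => by
      rw [Subgroup.mem_map_equiv, MulAut.conj_symm_apply]
    have e3 := SetLike.ext_iff.1 e (h * y * h⁻¹)
    rw [e1, e2] at e3
    simpa [mul_assoc] using e3.symm
  · intro hn
    ext z
    rw [Subgroup.mem_map_equiv, MulAut.conj_symm_apply, Subgroup.mem_map_equiv, MulAut.conj_symm_apply]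
    have := Subgroup.mem_normalizer_iff.1 hn (h⁻¹ * z * h)
    simpa [mul_assoc] using this.symm

open scoped Classical in
theorem Small.card_orb {B : Subgroup G} (hB : IsComp r N B) :
    (orb r N B).card * Nat.card (Lbar N B) = Nat.card (N.map (π (G := G))) := by
  set L := (N ⊓ Subgroup.normalizer (B : Set G))
  have hLN : L ≤ N := inf_le_left
  let f : N ⧸ L.subgroupOf N → {B' // B' ∈ orb r N B} := Quotient.lift
    (fun g : N => (⟨B.map (MulAut.conj (g : G)).toMonoidHom, Finset.mem_filter.2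
      ⟨mem_comps.2 (D.isComp_conj hB g), g, g.2, rfl⟩⟩ : {B' // B' ∈ orb r N B}))
    (fun a b hab => by
      have hab' : a⁻¹ * b ∈ L.subgroupOf N := QuotientGroup.leftRel_apply.1 hab
      exact Subtype.ext ((D.map_conj_eq_iff _ _).2 (Subgroup.mem_subgroupOf.1 hab').2))
  have hf : Function.Bijective f := by
    constructor
    · intro a b hab
      obtain ⟨a, rfl⟩ := QuotientGroup.mk_surjective a
      obtain ⟨b, rfl⟩ := QuotientGroup.mk_surjective b
      have h := (D.map_conj_eq_iff _ _).1 (congrArg Subtype.val hab)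
      rw [QuotientGroup.eq, Subgroup.mem_subgroupOf]
      exact ⟨(a⁻¹ * b).2, h⟩
    · rintro ⟨B', hB'⟩
      obtain ⟨g, hg, e⟩ := (Finset.mem_filter.1 hB').2
      exact ⟨QuotientGroup.mk ⟨g, hg⟩, Subtype.ext e.symm⟩
  have e := Nat.card_eq_of_bijective f hf
  rw [Nat.card_eq_finsetCard] at e
  have hLz : N ⊓ Subgroup.center G ≤ L := le_inf inf_le_left
    (inf_le_right.trans (Subgroup.center_le_normalizer _))
  have h1 := card_eq_card_map_mul hLz hLN
  have h2 := card_eq_card_map_mul (N := N) (V := N) inf_le_left le_rfl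
  rw [Subgroup.card_eq_card_quotient_mul_card_subgroup (L.subgroupOf N),
    Nat.card_congr (Subgroup.subgroupOfEquivOfLe hLN).toEquiv, e, h1, ← mul_assoc] at h2
  exact Nat.eq_of_mul_eq_mul_right Nat.card_pos h2

open scoped Classical in
theorem Small.contradiction : False := by
  haveI hNn := D.normal
  have hr : r.Prime := Fact.out
  obtain ⟨x0, hx0⟩ := D.comp
  obtain ⟨R1, hR1⟩ := (D.T_spec hx0).1.exists_le_sylow
  have hR1N : (R1 : Subgroup G) ≤ N := D.rSub_le R1.isPGroup'
  have hR := D.card_πR hx0 hR1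
  set Rb := (R1 : Subgroup G).map (π (G := G)) with hRb
  set n := Nat.card (N.map (π (G := G))) with hn
  have hsurj : Function.Surjective (π (G := G)) := QuotientGroup.mk'_surjective _
  have hRn : r * r ∣ n := hR ▸ Subgroup.card_dvd_of_le (Subgroup.map_mono hR1N)
  have hnr : r * r ≤ n := Nat.le_of_dvd Nat.card_pos hRn
  set Ls := (comps r N).filter fun B => ∃ x, Comp r N x ∧ B = C x ∧ T r x ≤ R1
  have hLs : ∀ B ∈ Ls, IsComp r N B := fun B hB => mem_comps.1 (Finset.mem_filter.1 hB).1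
  have hTeq : ∀ {x x' : G}, C x = C x' → T r x = T r x' := fun e => by rw [T, T, e]
  -- every component is conjugate to one meeting the Sylow subgroup
  have hcover : ∀ B ∈ comps r N, ∃ B' ∈ Ls, B ∈ orb r N B' := by
    intro B hB
    obtain ⟨x, hx, rfl⟩ := mem_comps.1 hB
    obtain ⟨R2, hR2⟩ := (D.T_spec hx).1.exists_le_sylow
    obtain ⟨g, hg⟩ := MulAction.exists_smul_eq G R1 R2
    have hgm : g ∈ Subgroup.normalizer ((R1 : Subgroup G) : Set G) ⊔ N :=
      (Sylow.normalizer_sup_eq_top' R1 hR1N).ge (Subgroup.mem_top g)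
    rw [sup_comm, ← SetLike.mem_coe, Subgroup.normal_mul] at hgm
    obtain ⟨k, hk, s, hs, rfl⟩ := Set.mem_mul.1 hgm
    refine ⟨C (k⁻¹ * x * k⁻¹⁻¹), Finset.mem_filter.2 ⟨mem_comps.2 ⟨_, D.Comp_conj hx _, rfl⟩,
      _, D.Comp_conj hx _, rfl, ?_⟩, Finset.mem_filter.2 ⟨hB, k, hk, ?_⟩⟩
    · rw [T_conj]
      rintro _ ⟨y, hy, rfl⟩
      have h1 := hR2 hy
      rw [← hg, Sylow.coe_subgroup_smul] at h1
      obtain ⟨v, hv, rfl⟩ := h1
      have h2 := (Subgroup.mem_normalizer_iff.1 hs v).1 hv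
      convert h2 using 1
      show k⁻¹ * ((k * s) * v * (k * s)⁻¹) * k⁻¹⁻¹ = _
      group
    · rw [← C_conj]
      congr 1
      group
  -- the number of lines
  have hline : Ls.card = r + 1 := by
    haveI := Fintype.ofFinite (G ⧸ Subgroup.center G)
    let S : Subgroup G → Finset (G ⧸ Subgroup.center G) := fun B =>
      Finset.univ.filter fun q => q ≠ 1 ∧ ∃ s ∈ (R1 : Subgroup G), s ∈ B ∧ π s = q
    have hS : ∀ B ∈ Ls, (S B).card = r - 1 := by
      intro B hB
      obtain ⟨-, x, hx, rfl, hT⟩ := Finset.mem_filter.1 hB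
      have e : S (C x) = (Finset.univ.filter fun q => q ∈ (T r x).map π).erase 1 := by
        ext q
        simp only [S, Finset.mem_filter, Finset.mem_univ, true_and, Finset.mem_erase]
        constructor
        · rintro ⟨hq, s, hsR, hs, rfl⟩
          exact ⟨hq, s, mem_T hs (PElt.of_mem hr R1.isPGroup' hsR), rfl⟩
        · rintro ⟨hq, s, hs, rfl⟩
          exact ⟨hq, s, hT hs, T_le r x hs, rfl⟩
      rw [e, Finset.card_erase_of_mem (Finset.mem_filter.2 ⟨Finset.mem_univ _, one_mem _⟩), ← Fintype.card_subtype (fun q => q ∈ (T r x).map π),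
        ← Nat.card_eq_fintype_card, D.card_πT hx]
    have hu : Ls.biUnion S = (Finset.univ.filter fun q => q ∈ Rb).erase 1 := by
      ext q
      simp only [S, Finset.mem_biUnion, Finset.mem_filter, Finset.mem_univ, true_and, Finset.mem_erase]
      constructor
      · rintro ⟨B, -, hq, s, hs, -, rfl⟩
        exact ⟨hq, s, hs, rfl⟩
      · rintro ⟨hq, s, hs, rfl⟩
        have hsc : s ∉ Subgroup.center G := fun h => hq (π_eq_one_iff.2 h)
        have hsr := PElt.of_mem hr R1.isPGroup' hs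
        obtain ⟨x, hx, hsT, -⟩ := D.exists_comp hsr ⟨hR1N hs, hsc⟩ (D.all_AType hsr ⟨hR1N hs, hsc⟩)
        exact ⟨C x, Finset.mem_filter.2 ⟨mem_comps.2 ⟨x, hx, rfl⟩, x, hx, rfl, D.T_le_of_mem hx hsT hsc hs⟩,
          hq, s, hs, T_le r x hsT, rfl⟩
    have hdisj : (Ls : Set (Subgroup G)).PairwiseDisjoint S := by
      intro B hB B' hB' hne
      rw [Function.onFun, Finset.disjoint_left]
      intro q hq hq'
      simp only [S, Finset.mem_filter, Finset.mem_univ, true_and] at hq hq'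
      obtain ⟨x, hx, rfl⟩ := hLs B hB
      obtain ⟨x', hx', rfl⟩ := hLs B' hB'
      obtain ⟨hq1, s, hsR, hs, rfl⟩ := hq
      obtain ⟨-, s', hsR', hs', e⟩ := hq'
      refine hne ?_
      rw [← D.comp_eq hx hs ⟨hR1N hsR, fun h => hq1 (π_eq_one_iff.2 h)⟩,
        ← D.comp_eq hx' hs' ⟨hR1N hsR', fun h => hq1 (e ▸ π_eq_one_iff.2 h)⟩,
        ← C_mul_central (x := s') (π_eq_iff.1 e), mul_inv_cancel_left]
    have := Finset.card_biUnion hdisj
    rw [hu, Finset.sum_congr rfl hS, Finset.sum_const, smul_eq_mul, Finset.card_erase_of_mem (by simp),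
      ← Fintype.card_subtype (fun q => q ∈ Rb), ← Nat.card_eq_fintype_card, hR] at this
    have h2 := hr.two_le
    obtain ⟨s, hs⟩ : ∃ s, r = s + 1 := ⟨r - 1, by omega⟩
    rw [hs] at this ⊢
    have e : (s + 1) * (s + 1) - 1 = (s + 1 + 1) * s := by
      have : (s + 1) * (s + 1) = (s + 1 + 1) * s + 1 := by ring
      omega
    rw [e, Nat.add_sub_cancel] at this
    exact (Nat.eq_of_mul_eq_mul_right (by omega) this).symm
  -- local facts at a line
  have hloc : ∀ B ∈ Ls, ∃ a k, Nat.card (Abar N B) = a ∧ r * (r + 1) ≤ a ∧ 0 < k ∧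
      Nat.card (Lbar N B) = k * (r * a) ∧ ¬ r ∣ k := by
    intro B hB
    obtain ⟨-, x, hx, rfl, hT⟩ := Finset.mem_filter.1 hB
    obtain ⟨ha, hnd⟩ := D.card_πA hx
    have hA : Nat.card (Abar N (C x)) = r * hh r N x := ha
    refine ⟨Nat.card (Abar N (C x)), ?_⟩
    have hlt := D.r_lt_hh hx
    have h1 : Rb ≤ Lbar N (C x) := by
      refine Subgroup.map_mono fun g hg => ⟨hR1N hg, D.mem_normalizer_C hx ?_⟩
      exact ((D.W_eq_sylow hx R1 hT).ge hg).2
    have h2 : Abar N (C x) ≤ Lbar N (C x) :=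
      Subgroup.map_mono fun g hg => ⟨hg.2, Subgroup.le_normalizer hg.1⟩
    have hd1 : r * r ∣ Nat.card (Lbar N (C x)) := hR ▸ Subgroup.card_dvd_of_le h1
    have hd2 : hh r N x ∣ Nat.card (Lbar N (C x)) :=
      (dvd_mul_left _ r).trans (hA ▸ Subgroup.card_dvd_of_le h2)
    obtain ⟨k, hk⟩ := (((Fact.out : r.Prime).coprime_iff_not_dvd.2 hnd).mul (((Fact.out : r.Prime).coprime_iff_not_dvd.2 hnd))).mul_dvd_of_dvd_of_dvd hd1 hd2
    refine ⟨k, rfl, ?_, ?_, ?_, fun hdk => ?_⟩
    · rw [hA]; exact Nat.mul_le_mul_left _ hlt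
    · refine Nat.pos_of_ne_zero fun h0 => ?_
      rw [h0, mul_zero] at hk
      exact Nat.card_pos.ne' hk
    · rw [hk, hA]; ring
    · have h3 : r * (r * r) ∣ Nat.card (G ⧸ Subgroup.center G) := by
        refine dvd_trans ?_ ((Lbar N (C x)).card_subgroup_dvd_card)
        obtain ⟨j, rfl⟩ := hdk
        exact ⟨hh r N x * j, by rw [hk]; ring⟩
      have h4 := (R1.mapSurjective hsurj).card_eq_multiplicity
      have e : Nat.card ↥((R1.mapSurjective hsurj : Sylow r (G ⧸ Subgroup.center G)) :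
          Subgroup (G ⧸ Subgroup.center G)) = r * r := hR
      rw [e] at h4
      have h5 : r ^ 3 ∣ Nat.card (G ⧸ Subgroup.center G) := by
        rwa [pow_succ', pow_two]
      have h6 := (hr.pow_dvd_iff_le_factorization Nat.card_pos.ne').1 h5
      rw [← pow_two] at h4
      have := Nat.pow_right_injective hr.two_le h4
      omega
  have horb : ∀ B ∈ Ls, 0 < (orb r N B).card := fun B hB =>
    Finset.card_pos.2 ⟨B, Finset.mem_filter.2 ⟨(Finset.mem_filter.1 hB).1, 1, one_mem _, by ext z; simp⟩⟩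
  have hconst : ∀ B ∈ Ls, ∀ B' ∈ orb r N B, Nat.card (Abar N B') - 1 = Nat.card (Abar N B) - 1 := by
    intro B _ B' hB'
    obtain ⟨g, -, rfl⟩ := (Finset.mem_filter.1 hB').2
    rw [D.card_Abar_conj]
  have hsum : ∀ B ∈ Ls, ∑ B' ∈ orb r N B, (Nat.card (Abar N B') - 1) =
      (orb r N B).card * (Nat.card (Abar N B) - 1) := fun B hB => by
    rw [Finset.sum_congr rfl (hconst B hB), Finset.sum_const, smul_eq_mul]
  -- upper bound from any covering set of lines
  have hub : ∀ S ⊆ Ls, (∀ B ∈ comps r N, ∃ B' ∈ S, B ∈ orb r N B') →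
      n - 1 ≤ ∑ B ∈ S, (orb r N B).card * (Nat.card (Abar N B) - 1) := by
    intro S hSL hcov
    rw [hn, D.count]
    calc ∑ B ∈ comps r N, (Nat.card (Abar N B) - 1)
        ≤ ∑ B ∈ S.biUnion (orb r N), (Nat.card (Abar N B) - 1) :=
          Finset.sum_le_sum_of_subset fun B hB => Finset.mem_biUnion.2 (hcov B hB)
      _ ≤ ∑ B ∈ S, ∑ B' ∈ orb r N B, (Nat.card (Abar N B') - 1) := sum_biUnion_le _ _ _
      _ = _ := Finset.sum_congr rfl fun B hB => hsum B (hSL hB)
  have hbound : ∀ B ∈ Ls, r * ((orb r N B).card * (Nat.card (Abar N B) - 1)) + r * (orb r N B).card ≤ n := by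
    intro B hB
    obtain ⟨a, k, ha, ha1, hk0, hk, -⟩ := hloc B hB
    have h := D.card_orb (hLs B hB)
    rw [hk] at h
    rw [ha, hn, ← h]
    have ha2 : 1 ≤ a := le_trans (Nat.mul_pos hr.pos r.succ_pos) ha1
    obtain ⟨a', rfl⟩ : ∃ a', a = a' + 1 := ⟨a - 1, by omega⟩
    rw [Nat.add_sub_cancel]
    have : 1 ≤ k := hk0
    calc r * ((orb r N B).card * a') + r * (orb r N B).card = (orb r N B).card * (1 * (r * (a' + 1))) := by ring
      _ ≤ _ := Nat.mul_le_mul_left _ (Nat.mul_le_mul_right _ this)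
  by_cases hfus : ∃ B1 ∈ Ls, ∃ B2 ∈ Ls, B1 ≠ B2 ∧ B2 ∈ orb r N B1
  · obtain ⟨B1, hB1, B2, hB2, hne, h12⟩ := hfus
    have hS : ∀ B ∈ comps r N, ∃ B' ∈ Ls.erase B2, B ∈ orb r N B' := by
      intro B hB
      obtain ⟨B', hB', hBB'⟩ := hcover B hB
      by_cases h : B' = B2
      · subst h
        refine ⟨B1, Finset.mem_erase.2 ⟨hne, hB1⟩, Finset.mem_filter.2 ⟨hB, ?_⟩⟩
        obtain ⟨g, hg, e1⟩ := (Finset.mem_filter.1 h12).2
        obtain ⟨g', hg', e2⟩ := (Finset.mem_filter.1 hBB').2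
        refine ⟨g' * g, mul_mem hg' hg, ?_⟩
        rw [e2, e1, Subgroup.map_map, map_mul]
        rfl
      · exact ⟨B', Finset.mem_erase.2 ⟨h, hB'⟩, hBB'⟩
    have h1 := hub _ (Finset.erase_subset _ _) hS
    have h2 : ∑ B ∈ Ls.erase B2, (r * ((orb r N B).card * (Nat.card (Abar N B) - 1)) + r) ≤
        (Ls.erase B2).card * n := by
      refine (Finset.sum_le_card_nsmul _ _ n fun B hB => ?_).trans (le_of_eq (smul_eq_mul _ _))
      refine le_trans ?_ (hbound B (Finset.mem_of_mem_erase hB))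
      exact Nat.add_le_add_left (Nat.le_mul_of_pos_right r (horb B (Finset.mem_of_mem_erase hB))) _
    rw [Finset.sum_add_distrib, ← Finset.mul_sum, Finset.sum_const, smul_eq_mul,
      Finset.card_erase_of_mem hB2, hline, Nat.add_sub_cancel] at h2
    obtain ⟨n', hn'⟩ : ∃ n', n = n' + 1 := ⟨n - 1, by have := Nat.mul_pos hr.pos hr.pos; omega⟩
    rw [hn', Nat.add_sub_cancel] at h1
    rw [hn'] at h2
    have := hr.two_le
    nlinarith
  -- no fusion
  push Not at hfus
  by_cases hk1 : ∀ B ∈ Ls, Nat.card (Lbar N B) = r * Nat.card (Abar N B)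
  · have hd : (Ls : Set (Subgroup G)).PairwiseDisjoint (orb r N) := by
      intro B hB B' hB' hne
      rw [Function.onFun, Finset.disjoint_left]
      intro B3 h h'
      refine hfus B hB B' hB' hne (Finset.mem_filter.2 ⟨(Finset.mem_filter.1 hB').1, ?_⟩)
      obtain ⟨g, hg, e1⟩ := (Finset.mem_filter.1 h).2
      obtain ⟨g', hg', e2⟩ := (Finset.mem_filter.1 h').2
      refine ⟨g'⁻¹ * g, mul_mem (inv_mem hg') hg, ?_⟩
      rw [map_mul, show (MulAut.conj g'⁻¹ * MulAut.conj g).toMonoidHom =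
        (MulAut.conj g'⁻¹).toMonoidHom.comp (MulAut.conj g).toMonoidHom from rfl, ← Subgroup.map_map, ← e1, e2,
        Subgroup.map_map]
      ext z
      simp [mul_assoc]
    have heq : n - 1 = ∑ B ∈ Ls, (orb r N B).card * (Nat.card (Abar N B) - 1) := by
      rw [hn, D.count, ← Finset.sum_congr rfl hsum, ← Finset.sum_biUnion hd]
      refine Finset.sum_congr ?_ fun _ _ => rfl
      ext B
      exact ⟨fun hB => Finset.mem_biUnion.2 (hcover B hB),
        fun hB => by obtain ⟨B', -, h⟩ := Finset.mem_biUnion.1 hB; exact (Finset.mem_filter.1 h).1⟩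
    have he : ∀ B ∈ Ls, r * ((orb r N B).card * (Nat.card (Abar N B) - 1)) + r * (orb r N B).card = n ∧
        r * (r + 1) * (r * (orb r N B).card) ≤ n := by
      intro B hB
      obtain ⟨a, k, ha, ha1, -, -, -⟩ := hloc B hB
      have h := D.card_orb (hLs B hB)
      rw [hk1 B hB, ha] at h
      rw [ha, hn, ← h]
      have ha2 : 1 ≤ a := le_trans (Nat.mul_pos hr.pos r.succ_pos) ha1
      obtain ⟨a', rfl⟩ : ∃ a', a = a' + 1 := ⟨a - 1, by omega⟩
      rw [Nat.add_sub_cancel]
      refine ⟨by ring, ?_⟩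
      calc r * (r + 1) * (r * (orb r N B).card) ≤ (a' + 1) * (r * (orb r N B).card) := Nat.mul_le_mul_right _ ha1
        _ = _ := by ring
    have h1 : ∑ B ∈ Ls, (r * ((orb r N B).card * (Nat.card (Abar N B) - 1)) + r * (orb r N B).card) =
        Ls.card * n := by
      rw [Finset.sum_congr rfl fun B hB => (he B hB).1, Finset.sum_const, smul_eq_mul]
    have h2 : ∑ B ∈ Ls, r * (r + 1) * (r * (orb r N B).card) ≤ Ls.card * n :=
      (Finset.sum_le_card_nsmul _ _ n fun B hB => (he B hB).2).trans (le_of_eq (smul_eq_mul _ _))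
    rw [Finset.sum_add_distrib, ← Finset.mul_sum, ← heq, hline] at h1
    rw [← Finset.mul_sum, hline] at h2
    set O := ∑ B ∈ Ls, r * (orb r N B).card
    obtain ⟨n', hn'⟩ : ∃ n', n = n' + 1 := ⟨n - 1, by have := Nat.mul_pos hr.pos hr.pos; omega⟩
    rw [hn', Nat.add_sub_cancel] at h1
    rw [hn'] at h2
    have := hr.two_le
    have h3 : r * O ≤ n' + 1 := Nat.le_of_mul_le_mul_left (by rw [← mul_assoc, mul_comm (r + 1) r]; exact h2) r.succ_pos
    nlinarith
  push Not at hk1
  obtain ⟨B0, hB0, hB0k⟩ := hk1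
  obtain ⟨a, k, ha, ha1, hk0, hk, hrk⟩ := hloc B0 hB0
  have hk1' : k ≠ 1 := fun e => hB0k (by rw [hk, e, one_mul, ha])
  obtain ⟨q, hq, hqk⟩ := Nat.exists_prime_and_dvd hk1'
  have hqr : q ≠ r := fun e => hrk (e ▸ hqk)
  haveI := Fact.mk hq
  obtain ⟨-, x, hx, rfl, hT⟩ := Finset.mem_filter.1 hB0
  obtain ⟨S⟩ := (inferInstance : Nonempty (Sylow q (N ⊓ Subgroup.normalizer (C x : Set G) : Subgroup G)))
  set SG := (S : Subgroup (N ⊓ Subgroup.normalizer (C x : Set G) : Subgroup G)).map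
    (N ⊓ Subgroup.normalizer (C x : Set G)).subtype with hSG
  obtain ⟨n0, hn0, hn0x⟩ : ∃ n0 ∈ SG, n0 ∉ C x := by
    by_contra h
    push Not at h
    have hSA : SG ≤ C x ⊓ N := fun y hy => ⟨h y hy, (Subgroup.map_subtype_le _ hy).1⟩
    have h1 := Subgroup.card_dvd_of_le hSA
    have hcL := card_eq_card_map_mul (N := N) (V := N ⊓ Subgroup.normalizer (C x : Set G))
      (le_inf inf_le_left (inf_le_right.trans (Subgroup.center_le_normalizer _))) inf_le_left
    have hcA := card_eq_card_map_mul (N := N) (V := C x ⊓ N)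
      (le_inf (inf_le_right.trans (center_le_C x)) inf_le_left) inf_le_right
    rw [show Nat.card ((N ⊓ Subgroup.normalizer (C x : Set G) : Subgroup G).map (π (G := G))) = k * (r * a) from hk]
      at hcL
    rw [show Nat.card ((C x ⊓ N : Subgroup G).map (π (G := G))) = a from ha] at hcA
    have h2 : Nat.card (N ⊓ Subgroup.normalizer (C x : Set G) : Subgroup G) =
        k * r * Nat.card (C x ⊓ N : Subgroup G) := by rw [hcL, hcA]; ring
    rw [hSG, Subgroup.card_map_of_injective (Subgroup.subtype_injective _), S.card_eq_multiplicity,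
      hq.pow_dvd_iff_le_factorization Nat.card_pos.ne', h2,
      Nat.factorization_mul (Nat.mul_ne_zero hk0.ne' hr.ne_zero) Nat.card_pos.ne', Finsupp.add_apply] at h1
    have := hq.factorization_pos_of_dvd (Nat.mul_ne_zero hk0.ne' hr.ne_zero) (dvd_mul_of_dvd_left hqk r)
    omega
  obtain ⟨t, ht, htN⟩ := D.exists_T_nc hx
  obtain ⟨u, hu, huN, huC, huW, hux, hut⟩ := D.exists_mover hx hT ht htN hq hqr
    (PElt.of_mem hq (S.isPGroup'.map _) hn0) (Subgroup.map_subtype_le _ hn0).1
    (Subgroup.map_subtype_le _ hn0).2 hn0x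
  rw [D.W_eq_sylow hx R1 hT] at huW
  have htr := PElt.of_mem hr (D.T_spec hx).1 ht
  by_cases hr2 : r = 2
  · refine hut ?_
    have hut2 := (Subgroup.mem_normalizer_iff.1 (mem_normalizer_T (r := r) huC) t).1 ht
    obtain ⟨i, hi, e⟩ := exists_pow_eq_of_prime (D.pow_r htr) hr.pos
      (D.π_T hx ht htN.2 ▸ Subgroup.mem_map_of_mem π hut2)
    subst hr2
    interval_cases i
    · rw [pow_zero, π_eq_one_iff, conj_mem_center] at e
      exact absurd e htN.2
    · rw [pow_one, map_mul, map_mul, map_inv, mul_inv_eq_iff_eq_mul] at e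
      exact e
  -- the mover fixes every line
  have hfix : ∀ B ∈ Ls, u ∈ Subgroup.normalizer (B : Set G) := by
    intro B hB
    obtain ⟨-, y, hy, rfl, hTy⟩ := Finset.mem_filter.1 hB
    have hmem : C (u * y * u⁻¹) ∈ Ls := by
      refine Finset.mem_filter.2 ⟨mem_comps.2 ⟨_, D.Comp_conj hy u, rfl⟩, _, D.Comp_conj hy u, rfl, ?_⟩
      rw [T_conj]
      rintro _ ⟨z, hz, rfl⟩
      exact (Subgroup.mem_normalizer_iff.1 huW z).1 (hTy hz)
    have e : C y = C (u * y * u⁻¹) := by
      by_contra hne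
      exact hfus _ hB _ hmem hne (Finset.mem_filter.2 ⟨(Finset.mem_filter.1 hmem).1, u, huN, C_conj u y⟩)
    rw [Subgroup.mem_normalizer_iff]
    intro z
    conv_rhs => rw [e, mem_C_conj]
    simp [mul_assoc]
  have hone : ∀ B ∈ Ls, ∀ B' ∈ Ls, u ∈ B → u ∈ B' → B = B' := by
    intro B hB B' hB' hb hb'
    by_contra hne
    obtain ⟨-, y, hy, rfl, hTy⟩ := Finset.mem_filter.1 hB
    obtain ⟨-, y', hy', rfl, hTy'⟩ := Finset.mem_filter.1 hB'
    obtain ⟨s, hs, hsN⟩ := D.exists_T_nc hy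
    obtain ⟨s', hs', hsN'⟩ := D.exists_T_nc hy'
    have hind : π s' ∉ Subgroup.zpowers (π s) := fun h => hne <| by
      rw [← D.π_T hy hs hsN.2] at h
      obtain ⟨w, hw, e⟩ := h
      have hwc : w ∉ Subgroup.center G := fun h => hsN'.2 <| π_eq_one_iff.1 (e ▸ π_eq_one_iff.2 h)
      rw [← D.comp_eq hy (T_le r y hw) ⟨(D.T_spec hy).2.1 hw, hwc⟩, ← D.comp_eq hy' (T_le r y' hs') hsN',
        ← C_mul_central (x := w) (π_eq_iff.1 e), mul_inv_cancel_left]
    refine hut ?_
    obtain ⟨i, -, j, -, e⟩ := D.plane hR (hTy hs) (hTy' hs') hsN'.2 hsN.2 hind (Subgroup.mem_map_of_mem π (hT ht))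
    have c1 : Commute (π u) (π s) := by
      show π u * π s = π s * π u
      rw [← map_mul, ← map_mul, D.comm hy hb (T_le r y hs) hsN.1]
    have c2 : Commute (π u) (π s') := by
      show π u * π s' = π s' * π u
      rw [← map_mul, ← map_mul, D.comm hy' hb' (T_le r y' hs') hsN'.1]
    rw [e]
    exact ((c1.pow_right i).mul_right (c2.pow_right j)).eq
  have hhalf : ∀ B ∈ Ls, u ∉ B →
      2 * (r * ((orb r N B).card * (Nat.card (Abar N B) - 1))) ≤ n := by
    intro B hB huB
    obtain ⟨a, k, ha, -, hk0, hk, -⟩ := hloc B hB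
    have hk2 : k ≠ 1 := by
      rintro rfl
      rw [one_mul] at hk
      set L := N ⊓ Subgroup.normalizer (B : Set G)
      obtain ⟨y, hy, rfl⟩ := hLs B hB
      have hAL : C y ⊓ N ≤ L := fun g hg => ⟨hg.2, Subgroup.le_normalizer hg.1⟩
      haveI : ((C y ⊓ N).subgroupOf L).Normal := ⟨fun g hg l => by
        rw [Subgroup.mem_subgroupOf] at hg ⊢
        exact ⟨(Subgroup.mem_normalizer_iff.1 l.2.2 _).1 hg.1, D.conj_mem_N hg.2 _⟩⟩
      have hidx : ((C y ⊓ N).subgroupOf L).index = r := by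
        have hcL := card_eq_card_map_mul (N := N) (V := L)
          (le_inf inf_le_left (inf_le_right.trans (Subgroup.center_le_normalizer _))) inf_le_left
        have hcA := card_eq_card_map_mul (N := N) (V := C y ⊓ N)
          (le_inf (inf_le_right.trans (center_le_C y)) inf_le_left) inf_le_right
        have h := ((C y ⊓ N).subgroupOf L).card_mul_index
        rw [show Nat.card (L.map (π (G := G))) = r * a from hk] at hcL
        rw [show Nat.card ((C y ⊓ N : Subgroup G).map (π (G := G))) = a from ha] at hcA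
        rw [Nat.card_congr (Subgroup.subgroupOfEquivOfLe hAL).toEquiv, hcL, mul_assoc, ← hcA,
          mul_comm r] at h
        exact Nat.eq_of_mul_eq_mul_left Nat.card_pos h
      have h := Subgroup.pow_index_mem ((C y ⊓ N).subgroupOf L) ⟨u, huN, hfix _ hB⟩
      rw [hidx, Subgroup.mem_subgroupOf] at h
      obtain ⟨e, he⟩ := hu
      obtain ⟨j, hj⟩ := exists_pow_eq_self_of_coprime (x := u) (n := r) (by
        rw [he]; exact ((Nat.coprime_primes hr hq).2 hqr.symm).pow_right e)
      exact huB (hj ▸ pow_mem h.1 j)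
    have h := D.card_orb (hLs B hB)
    rw [hk] at h
    rw [hn, ← h, ha]
    have : 2 ≤ k := by omega
    calc 2 * (r * ((orb r N B).card * (a - 1))) ≤ 2 * (r * ((orb r N B).card * a)) :=
          Nat.mul_le_mul_left _ (Nat.mul_le_mul_left _ (Nat.mul_le_mul_left _ (Nat.sub_le _ _)))
      _ = (orb r N B).card * (2 * (r * a)) := by ring
      _ ≤ _ := Nat.mul_le_mul_left _ (Nat.mul_le_mul_right _ this)
  have h1 := hub Ls Finset.Subset.rfl hcover
  set f := fun B => (orb r N B).card * (Nat.card (Abar N B) - 1)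
  change n - 1 ≤ ∑ B ∈ Ls, f B at h1
  have h2 : 2 * (r * ∑ B ∈ Ls, f B) ≤ (r + 2) * n := by
    by_cases hex : ∃ B ∈ Ls, u ∈ B
    · obtain ⟨B, hB, huB⟩ := hex
      rw [← Finset.add_sum_erase _ _ hB, Nat.mul_add, Nat.mul_add]
      have e1 : r * f B ≤ n := le_trans (Nat.le_add_right _ _) (hbound B hB)
      have e2 : 2 * (r * ∑ B' ∈ Ls.erase B, f B') ≤ r * n := by
        rw [Finset.mul_sum, Finset.mul_sum]
        refine (Finset.sum_le_card_nsmul _ _ n fun B' hB' => ?_).trans ?_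
        · exact hhalf B' (Finset.mem_of_mem_erase hB') fun h =>
            Finset.ne_of_mem_erase hB' (hone _ (Finset.mem_of_mem_erase hB') _ hB h huB)
        · rw [smul_eq_mul, Finset.card_erase_of_mem hB, hline, Nat.add_sub_cancel]
      rw [Nat.add_mul]
      omega
    · push Not at hex
      rw [Finset.mul_sum, Finset.mul_sum]
      refine (Finset.sum_le_card_nsmul _ _ n fun B' hB' => hhalf B' hB' (hex B' hB')).trans ?_
      rw [smul_eq_mul, hline]
      exact Nat.mul_le_mul_right _ (by omega)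
  have h3 : 3 ≤ r := by have := hr.two_le; omega
  obtain ⟨n', hn'⟩ : ∃ n', n = n' + 1 := ⟨n - 1, by have := Nat.mul_pos hr.pos hr.pos; omega⟩
  rw [hn', Nat.add_sub_cancel] at h1
  rw [hn'] at h2 hnr
  nlinarith

end CfsgLib.TwoSizesNormal
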