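import Cfsg.Agent.TwoSizesNormal.Tower

/-!
When `T x` is minimal: the `r`-elements, and the comparison of the centralizer of an `r`-element whose
centralizer in `N` has no noncentral element of order prime to `r` with the centralizer of a component.
-/

set_option autoImplicit false

namespace CfsgLib.TwoSizesNormal

open OneMMN

variable {G : Type*} [Group G] {r : ℕ} {N : Subgroup G} {R : Sylow r G} {m : ℕ}

/-- The hypothesis that `r` divides the class size and every `T x` is minimal. -/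
structure Small (r : ℕ) (N : Subgroup G) (R : Sylow r G) (m : ℕ) : Prop extends Setup r N R m where
  dvd : r ∣ m
  ne_zero : m ≠ 0
  card_T : ∀ x, Comp r N x → Nat.card (T r x) = r * zr R
  comp : ∃ x, Comp r N x

/-- A noncentral `r`-element centralizing a component. -/
def AType (r : ℕ) (N : Subgroup G) (g : G) : Prop := ∃ x, Comp r N x ∧ g ∈ C x

/-- A noncentral `r`-element centralizing no component. -/
def NonA (r : ℕ) (N : Subgroup G) (g : G) : Prop := PElt r g ∧ NC N g ∧ ¬ AType r N g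

theorem π_commute_zpowers {a b c : G} (h : π a * π b = π b * π a) (hc : c ∈ Subgroup.zpowers a) :
    π c * π b = π b * π c := by
  obtain ⟨k, rfl⟩ := hc
  simp only [map_zpow]
  exact ((show Commute (π a) (π b) from h).zpow_left k).eq

theorem card_eq_card_map_mul [Finite G] {N V : Subgroup G} (h : N ⊓ Subgroup.center G ≤ V) (hV : V ≤ N) :
    Nat.card V = Nat.card (V.map (π (G := G))) * Nat.card (N ⊓ Subgroup.center G : Subgroup G) := by
  set f := (π (G := G)).comp V.subtype
  rw [Subgroup.card_eq_card_quotient_mul_card_subgroup f.ker,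
    Nat.card_congr (QuotientGroup.quotientKerEquivRange f).toEquiv, MonoidHom.range_comp, Subgroup.range_subtype]
  congr 1
  have e : f.ker = (N ⊓ Subgroup.center G).subgroupOf V := by
    ext v
    rw [MonoidHom.mem_ker, Subgroup.mem_subgroupOf]
    exact ⟨fun hv => ⟨hV v.2, π_eq_one_iff.1 hv⟩, fun hv => π_eq_one_iff.2 hv.2⟩
  rw [e, Nat.card_congr (Subgroup.subgroupOfEquivOfLe h).toEquiv]

theorem card_eq_card_image_mul [Finite G] (N K : Subgroup G) [N.Normal] :
    Nat.card K = Nat.card (K.map (QuotientGroup.mk' N)) * Nat.card (K ⊓ N : Subgroup G) := by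
  set f := (QuotientGroup.mk' N).comp K.subtype
  rw [Subgroup.card_eq_card_quotient_mul_card_subgroup f.ker,
    Nat.card_congr (QuotientGroup.quotientKerEquivRange f).toEquiv, MonoidHom.range_comp, Subgroup.range_subtype]
  congr 1
  have e : f.ker = (K ⊓ N).subgroupOf K := by
    ext v
    rw [MonoidHom.mem_ker, Subgroup.mem_subgroupOf]
    exact ⟨fun hv => ⟨v.2, (QuotientGroup.eq_one_iff (v : G)).1 hv⟩,
      fun hv => (QuotientGroup.eq_one_iff (v : G)).2 hv.2⟩
  rw [e, Nat.card_congr (Subgroup.subgroupOfEquivOfLe inf_le_left).toEquiv]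

open scoped Classical in
theorem exists_pow_eq_of_prime {Γ : Type*} [Group Γ] [Finite Γ] {a y : Γ} {r : ℕ} (ha : a ^ r = 1) (hr : 0 < r)
    (hy : y ∈ Subgroup.zpowers a) : ∃ i < r, y = a ^ i := by
  rw [mem_zpowers_iff_mem_range_orderOf, Finset.mem_image] at hy
  obtain ⟨i, hi, rfl⟩ := hy
  exact ⟨i, (Finset.mem_range.1 hi).trans_le (Nat.le_of_dvd hr (orderOf_dvd_of_pow_eq_one ha)), rfl⟩

theorem card_image_le [Finite G] [N.Normal] {r : ℕ} {L B : Subgroup G} (P : G → ℕ → Prop)
    (h1 : ∀ l ∈ L, ∃ i, i ≠ 0 ∧ i < r ∧ P l i)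
    (h2 : ∀ l ∈ L, ∀ l' ∈ L, ∀ i, P l i → P l' i →
      QuotientGroup.mk' N (l⁻¹ * l') ∈ B.map (QuotientGroup.mk' N)) :
    Nat.card (L.map (QuotientGroup.mk' N)) ≤ (r - 1) * Nat.card (B.map (QuotientGroup.mk' N)) := by
  classical
  set Lb := L.map (QuotientGroup.mk' N)
  set Bb := B.map (QuotientGroup.mk' N)
  have hl : ∀ q : Lb, ∃ l ∈ L, QuotientGroup.mk' N l = q := fun q => q.2
  choose f hf hfq using hl
  choose idx hi0 hir hP using fun q : Lb => h1 (f q) (hf q)
  let S := {i : Fin (r - 1) // ∃ q : Lb, idx q = i.1 + 1}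
  let rep : S → Lb := fun s => s.2.choose
  have hrep : ∀ s : S, idx (rep s) = s.1.1 + 1 := fun s => s.2.choose_spec
  let k : Lb → S := fun q => ⟨⟨idx q - 1, by have := hi0 q; have := hir q; omega⟩, q, by
    have := hi0 q; show idx q = idx q - 1 + 1; omega⟩
  have hk : ∀ q, idx (rep (k q)) = idx q := fun q => by
    rw [hrep]; have := hi0 q; show idx q - 1 + 1 = idx q; omega
  have hinj : Function.Injective (fun q : Lb => ((k q).1,
      (⟨((rep (k q) : Lb) : G ⧸ N)⁻¹ * (q : G ⧸ N), by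
        rw [← hfq (rep (k q)), ← hfq q, ← map_inv, ← map_mul]
        exact h2 _ (hf _) _ (hf q) (idx q) (hk q ▸ hP (rep (k q))) (hP q)⟩ : Bb))) := by
    intro q q' hqq
    simp only [Prod.mk.injEq, Subtype.mk.injEq] at hqq
    have e : k q = k q' := Subtype.ext hqq.1
    have h3 := hqq.2
    rw [e] at h3
    exact Subtype.ext (mul_left_cancel h3)
  refine (Nat.card_le_card_of_injective _ hinj).trans ?_
  rw [Nat.card_prod, Nat.card_fin]

variable [Finite G] [Fact r.Prime] (D : Small r N R m)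
include D

/-- An `r`-group centralizing a noncentral element of `N` is small. -/
theorem Small.card_le {g : G} (hg : NC N g) {W : Subgroup G} (hW : IsPGroup r W) (hWg : W ≤ C g) :
    Nat.card W ≤ r * zr R := by
  obtain ⟨x, hx⟩ := D.comp
  rw [← D.card_T x hx]
  exact D.card_rSub_le hg (D.T_spec hx).2.2 hW hWg

omit D [Finite G] [Fact r.Prime] in
/-- The central `r`-subgroup with `g`. -/
theorem isPGroup_line {g : G} (hg : PElt r g) [Finite G] [Fact r.Prime] :
    IsPGroup r ((R : Subgroup G) ⊓ Subgroup.center G ⊔ Subgroup.zpowers g : Subgroup G) :=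
  (R.isPGroup'.to_le inf_le_left).to_sup_of_normal_left' hg.isPGroup_zpowers
    ((Subgroup.zpowers_le.2 (Subgroup.mem_centralizer_iff.2 fun z hz =>
      (Subgroup.mem_center_iff.1 hz.2 g).symm)).trans (Subgroup.centralizer_le_normalizer _))

theorem Small.card_line {g : G} (hg : PElt r g) (hgN : NC N g) :
    Nat.card ((R : Subgroup G) ⊓ Subgroup.center G ⊔ Subgroup.zpowers g : Subgroup G) = r * zr R := by
  set U := (R : Subgroup G) ⊓ Subgroup.center G ⊔ Subgroup.zpowers g
  refine le_antisymm (D.card_le hgN (isPGroup_line hg)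
    (sup_le (inf_le_right.trans (center_le_C g)) (Subgroup.zpowers_le.2 (self_mem_C g)))) ?_
  obtain ⟨k, hk⟩ := Subgroup.card_dvd_of_le (le_sup_left : (R : Subgroup G) ⊓ Subgroup.center G ≤ U)
  change Nat.card U = zr R * k at hk
  obtain ⟨i, hi⟩ := (isPGroup_line (R := R) hg).exists_card_eq
  have hkd : k ∣ r ^ i := ⟨zr R, by rw [← hi, mul_comm k]; exact hk⟩
  obtain ⟨j, -, rfl⟩ := (Nat.dvd_prime_pow Fact.out).1 hkd
  rcases j with _ | j
  · rw [pow_zero, mul_one] at hk
    exact absurd ((Subgroup.eq_of_le_of_card_ge le_sup_left hk.le : (R : Subgroup G) ⊓ Subgroup.center G = U).ge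
      (Subgroup.mem_sup_right (Subgroup.mem_zpowers g))).2 hgN.2
  · rw [hk, mul_comm r]
    exact Nat.mul_le_mul_left _ (Nat.le_self_pow j.succ_ne_zero r)

theorem Small.pow_r {g : G} (hg : PElt r g) : π g ^ r = 1 := by
  by_cases hgc : g ∈ Subgroup.center G
  · rw [π_eq_one_iff.2 hgc, one_pow]
  set Z := (R : Subgroup G) ⊓ Subgroup.center G
  set U := Z ⊔ Subgroup.zpowers g
  haveI : (Z.subgroupOf U).Normal := ⟨fun z hz u => by
    rw [Subgroup.mem_subgroupOf] at hz ⊢
    push_cast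
    rwa [Subgroup.mem_center_iff.1 hz.2 (u : G), mul_inv_cancel_right]⟩
  have hi : (Z.subgroupOf U).index = r := by
    have h := (Z.subgroupOf U).card_mul_index
    rw [Nat.card_congr (Subgroup.subgroupOfEquivOfLe le_sup_left).toEquiv,
      D.card_line hg ⟨D.rElt_mem hg, hgc⟩, mul_comm r] at h
    exact Nat.eq_of_mul_eq_mul_left (by exact Nat.card_pos) h
  have h2 := Subgroup.pow_index_mem (Z.subgroupOf U) ⟨g, Subgroup.mem_sup_right (Subgroup.mem_zpowers g)⟩
  rw [hi, Subgroup.mem_subgroupOf] at h2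
  rw [← map_pow, π_eq_one_iff]
  exact h2.2

theorem Small.orderOf_π {g : G} (hg : PElt r g) (hgc : g ∉ Subgroup.center G) : orderOf (π g) = r :=
  orderOf_eq_prime (D.pow_r hg) fun h => hgc (π_eq_one_iff.1 h)

/-- An `r`-element commuting with `g` is congruent to a power of `g`. -/
theorem Small.mem_zpowers_π {g y : G} (hg : PElt r g) (hgN : NC N g) (hy : PElt r y) (hc : y ∈ C g) :
    π y ∈ Subgroup.zpowers (π g) := by
  set U := (R : Subgroup G) ⊓ Subgroup.center G ⊔ Subgroup.zpowers g with hU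
  have hUg : U ≤ C g := sup_le (inf_le_right.trans (center_le_C g)) (Subgroup.zpowers_le.2 (self_mem_C g))
  have hUy : U ≤ C y := sup_le (inf_le_right.trans (center_le_C y)) (Subgroup.zpowers_le.2 (mem_C_comm.1 hc))
  have hV : IsPGroup r (U ⊔ Subgroup.zpowers y : Subgroup G) := (isPGroup_line hg).to_sup_of_normal_left'
    hy.isPGroup_zpowers ((Subgroup.zpowers_le.2 (Subgroup.mem_centralizer_iff.2 fun u hu =>
      mem_C.1 (hUy hu))).trans (Subgroup.centralizer_le_normalizer _))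
  have hle := D.card_le hgN hV (sup_le hUg (Subgroup.zpowers_le.2 hc))
  rw [← D.card_line hg hgN] at hle
  have hyU : y ∈ U := (Subgroup.eq_of_le_of_card_ge le_sup_left hle : U = _).ge
    (Subgroup.mem_sup_right (Subgroup.mem_zpowers y))
  have hmap : U.map (π (G := G)) ≤ Subgroup.zpowers (π g) := by
    rw [hU, Subgroup.map_sup, MonoidHom.map_zpowers]
    refine sup_le ?_ le_rfl
    rintro _ ⟨z, hz, rfl⟩
    rw [π_eq_one_iff.2 hz.2]
    exact one_mem _
  exact hmap (Subgroup.mem_map_of_mem _ hyU)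

theorem Small.π_T {x t : G} (hx : Comp r N x) (ht : t ∈ T r x) (htc : t ∉ Subgroup.center G) :
    (T r x).map (π (G := G)) = Subgroup.zpowers (π t) := by
  obtain ⟨hT, hTN, -⟩ := D.T_spec hx
  refine le_antisymm ?_ (Subgroup.zpowers_le.2 (Subgroup.mem_map_of_mem _ ht))
  rintro _ ⟨s, hs, rfl⟩
  exact D.mem_zpowers_π (PElt.of_mem Fact.out hT ht) ⟨hTN ht, htc⟩ (PElt.of_mem Fact.out hT hs)
    (mem_C.2 (D.comm hx (T_le r x hs) (T_le r x ht) (hTN ht)))

theorem Small.card_πT {x : G} (hx : Comp r N x) : Nat.card ((T r x).map (π (G := G))) = r := by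
  obtain ⟨t, ht, htN⟩ := D.exists_T_nc hx
  rw [D.π_T hx ht htN.2, Nat.card_zpowers, D.orderOf_π (PElt.of_mem Fact.out (D.T_spec hx).1 ht) htN.2]

omit D in
/-- The order of the `r'`-part of a component modulo the centre. -/
noncomputable def hh (r : ℕ) (N : Subgroup G) (x : G) : ℕ := Nat.card ((H r N x).map (π (G := G)))

theorem Small.card_πA {x : G} (hx : Comp r N x) :
    Nat.card ((C x ⊓ N : Subgroup G).map (π (G := G))) = r * hh r N x ∧ ¬ r ∣ hh r N x := by
  have hnd : ¬ r ∣ hh r N x := fun h => D.not_dvd_card_H hx (h.trans (Subgroup.card_map_dvd _ _))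
  refine ⟨?_, hnd⟩
  set A := (C x ⊓ N : Subgroup G)
  have h1 : (T r x).map (π (G := G)) ≤ A.map π := Subgroup.map_mono (le_inf (T_le r x) (D.T_spec hx).2.1)
  have h2 : (H r N x).map (π (G := G)) ≤ A.map π := Subgroup.map_mono (H_le r N x)
  have hd := ((Fact.out : r.Prime).coprime_iff_not_dvd.2 hnd).mul_dvd_of_dvd_of_dvd
    (D.card_πT hx ▸ Subgroup.card_dvd_of_le h1) (Subgroup.card_dvd_of_le h2)
  refine le_antisymm ?_ (Nat.le_of_dvd Nat.card_pos hd)
  refine ((congrArg (· * hh r N x) (D.card_πT hx).symm).trans (Nat.card_prod _ _).symm) ▸ ?_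
  refine Nat.card_le_card_of_surjective
    (fun w => (⟨(w.1 : G ⧸ Subgroup.center G) * w.2, mul_mem (h1 w.1.2) (h2 w.2.2)⟩ : A.map π)) ?_
  rintro ⟨_, z, hz, rfl⟩
  obtain ⟨a, b, rfl, -, ha, hb, haz, hbz⟩ := split (p := r) Fact.out z
  have ha' := Subgroup.zpowers_le.2 hz haz
  have hb' := Subgroup.zpowers_le.2 hz hbz
  exact ⟨(⟨π a, Subgroup.mem_map_of_mem _ (mem_T ha'.1 ha)⟩,
    ⟨π b, Subgroup.mem_map_of_mem _ ((D.mem_H hx).2 ⟨hb'.1, hb'.2, hb⟩)⟩), Subtype.ext (map_mul π a b).symm⟩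

/-- The `r'`-part of a component modulo the centre is larger than `r`. -/
theorem Small.r_lt_hh {x : G} (hx : Comp r N x) : r < hh r N x := by
  obtain ⟨R1, hR1⟩ := (D.T_spec hx).1.exists_le_sylow
  obtain ⟨hTW, hWc⟩ := D.W_spec hx D.dvd D.ne_zero R1 hR1
  obtain ⟨g, hgW, hgT⟩ : ∃ g ∈ W r R1 x, g ∉ T r x := by
    by_contra h
    push Not at h
    have hle := Subgroup.card_le_of_le (show W r R1 x ≤ T r x from h)
    rw [hWc] at hle
    exact absurd hle (not_le.2 ((lt_mul_iff_one_lt_left Nat.card_pos).2 (Fact.out : r.Prime).one_lt))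
  have hgr : PElt r g := PElt.of_mem Fact.out R1.isPGroup' hgW.1
  have hgC := D.mem_normalizer_C hx hgW.2
  set V := (H r N x).map (π (G := G))
  have hnorm : ∀ k : Subgroup.zpowers (π g), ∀ v ∈ V, (k : G ⧸ Subgroup.center G) * v *
      (k : G ⧸ Subgroup.center G)⁻¹ ∈ V := by
    rintro ⟨_, k, rfl⟩ _ ⟨h, hh', rfl⟩
    obtain ⟨h1, h2, h3⟩ := (D.mem_H hx).1 hh'
    refine ⟨g ^ k * h * (g ^ k)⁻¹, (D.mem_H hx).2
      ⟨(Subgroup.mem_normalizer_iff.1 (Subgroup.zpow_mem _ hgC k) h).1 h1, D.conj_mem_N h2 _,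
        by rwa [orderOf_conj]⟩, by simp [map_mul, map_inv, map_zpow]⟩
  let inst : MulAction (Subgroup.zpowers (π g)) V :=
    { smul := fun k v => ⟨k * v * (k : G ⧸ Subgroup.center G)⁻¹, hnorm k v v.2⟩
      one_smul := fun v => Subtype.ext (show ((1 : Subgroup.zpowers (π g)) : G ⧸ Subgroup.center G) * v * _ = _ by
        simp)
      mul_smul := fun k l v => Subtype.ext (show ((k * l : Subgroup.zpowers (π g)) : G ⧸ Subgroup.center G) * v * _
        = (k : G ⧸ Subgroup.center G) * ((l : G ⧸ Subgroup.center G) * v * (l : G ⧸ Subgroup.center G)⁻¹) *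
          (k : G ⧸ Subgroup.center G)⁻¹ by rw [Subgroup.coe_mul, mul_inv_rev]; group) }
  have hmod := (hgr.isPGroup_zpowers.map (π (G := G))).of_equiv
    (MulEquiv.subgroupCongr (MonoidHom.map_zpowers π g)) |>.card_modEq_card_fixedPoints V
  have hfix : ∀ v ∈ MulAction.fixedPoints (Subgroup.zpowers (π g)) V, v = 1 := by
    intro v hv
    obtain ⟨h, hh', hhv⟩ := v.2
    obtain ⟨h1, h2, h3⟩ := (D.mem_H hx).1 hh'
    refine Subtype.ext (hhv.symm.trans (π_eq_one_iff.2 ?_))
    by_contra hc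
    have e : π g * (v : G ⧸ Subgroup.center G) * (π g)⁻¹ = v :=
      congrArg Subtype.val (hv ⟨π g, Subgroup.mem_zpowers _⟩)
    rw [← hhv, mul_inv_eq_iff_eq_mul] at e
    exact hgT (D.mem_T_of_comm hx hgr h1 ⟨h2, hc⟩ (mem_C_of_π e (hgr.coprime Fact.out h3)))
  have hone : (1 : V) ∈ MulAction.fixedPoints (Subgroup.zpowers (π g)) V := fun k =>
    Subtype.ext (show (k : G ⧸ Subgroup.center G) * 1 * _ = 1 by simp)
  have hfc : Nat.card (MulAction.fixedPoints (Subgroup.zpowers (π g)) V) = 1 := by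
    rw [Nat.card_eq_one_iff_exists]
    exact ⟨⟨1, hone⟩, fun w => Subtype.ext (hfix w.1 w.2)⟩
  rw [hfc] at hmod
  change hh r N x ≡ 1 [MOD r] at hmod
  obtain ⟨hxN, p, hp, hpr, hpx⟩ := hx
  have hxV : π x ∈ V := Subgroup.mem_map_of_mem _
    (Subgroup.subset_closure ⟨self_mem_C x, hxN.1, PElt.not_dvd Fact.out hp hpr hpx⟩)
  have hne : hh r N x ≠ 1 := fun e => by
    rw [hh, Subgroup.card_eq_one] at e
    rw [show V = ⊥ from e, Subgroup.mem_bot] at hxV
    exact hxN.2 (π_eq_one_iff.1 hxV)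
  have hpos : 0 < hh r N x := Nat.card_pos
  have hd := (Nat.modEq_iff_dvd' hpos).1 hmod.symm
  have := Nat.le_of_dvd (by omega) hd
  omega

/-- For an `r`-element without component, the elements of order prime to `r` centralizing it are central. -/
theorem Small.nonA_prime {g v : G} (hg : NonA r N g) (hv : v ∈ C g) (hvN : v ∈ N) (hvr : ¬ r ∣ orderOf v) :
    v ∈ Subgroup.center G := by
  refine le_of_pElts (A := Subgroup.center G) (B := Subgroup.zpowers v) ?_ (Subgroup.mem_zpowers v)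
  intro q hq b hb hbq
  by_contra hbc
  refine hg.2.2 ⟨b, ⟨⟨Subgroup.zpowers_le.2 hvN hb, hbc⟩, q, hq, ?_, hbq⟩,
    mem_C_comm.1 (Subgroup.zpowers_le.2 hv hb)⟩
  rintro rfl
  obtain ⟨k, hk⟩ := hbq
  rcases k with _ | k
  · exact hbc (by rw [orderOf_eq_one_iff.1 (hk.trans (pow_zero q))]; exact one_mem _)
  · exact hvr (((hk ▸ dvd_pow_self q k.succ_ne_zero : q ∣ orderOf b)).trans
      (orderOf_dvd_of_mem_zpowers hb))

theorem Small.image_eq {g x : G} (hg : NonA r N g) (hx : Comp r N x) :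
    haveI := D.normal
    Nat.card ((C g).map (QuotientGroup.mk' N)) = hh r N x * Nat.card ((C x).map (QuotientGroup.mk' N)) := by
  haveI := D.normal
  have hA : Nat.card ((C g ⊓ N : Subgroup G).map (π (G := G))) = r := by
    have e : (C g ⊓ N : Subgroup G).map (π (G := G)) = Subgroup.zpowers (π g) := by
      refine le_antisymm ?_ (Subgroup.zpowers_le.2 (Subgroup.mem_map_of_mem _ ⟨self_mem_C g, hg.2.1.1⟩))
      rintro _ ⟨z, hz, rfl⟩
      obtain ⟨a, b, rfl, -, ha, hb, haz, hbz⟩ := split (p := r) Fact.out z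
      have hb' := Subgroup.zpowers_le.2 hz hbz
      rw [map_mul, π_eq_one_iff.2 (D.nonA_prime hg hb'.1 hb'.2 hb), mul_one]
      exact D.mem_zpowers_π hg.1 hg.2.1 ha (Subgroup.zpowers_le.2 hz haz).1
    rw [e, Nat.card_zpowers, D.orderOf_π hg.1 hg.2.1.2]
  have h1 := card_eq_card_image_mul N (C g)
  have h2 := card_eq_card_image_mul N (C x)
  rw [card_eq_card_map_mul (le_inf (inf_le_right.trans (center_le_C g)) inf_le_left) inf_le_right, hA] at h1
  rw [card_eq_card_map_mul (le_inf (inf_le_right.trans (center_le_C x)) inf_le_left) inf_le_right,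
    (D.card_πA hx).1, ← card_eq_of_index_eq ((D.idx hg.2.1).trans (D.idx hx.1).symm), h1] at h2
  have hpos : 0 < r * Nat.card (N ⊓ Subgroup.center G : Subgroup G) :=
    Nat.mul_pos (Fact.out : r.Prime).pos Nat.card_pos
  refine Nat.eq_of_mul_eq_mul_right hpos (h2.trans ?_)
  ring

/-- An element commuting with `t ∈ T x` modulo the centre lies in `C x N`. -/
theorem Small.mk_mem_of_fix {x t u : G} (hx : Comp r N x) (ht : t ∈ T r x) (htN : NC N t)
    (h : π u * π t = π t * π u) :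
    haveI := D.normal
    QuotientGroup.mk' N u ∈ (C x).map (QuotientGroup.mk' N) := by
  haveI := D.normal
  obtain ⟨a, b, rfl, -, ha, hb, haz, hbz⟩ := split (p := r) Fact.out u
  have hbC : b ∈ C x := by
    rw [← D.comp_eq hx (T_le r x ht) htN]
    exact mem_C_of_π (π_commute_zpowers h hbz)
      ((PElt.of_mem Fact.out (D.T_spec hx).1 ht).coprime Fact.out hb).symm
  exact ⟨b, hbC, by rw [map_mul, (QuotientGroup.eq_one_iff a).2 (D.rElt_mem ha) |> fun h =>
    (show QuotientGroup.mk' N a = 1 from h), one_mul]⟩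

/-- The centralizer of an element without component is too large to act on a component. -/
theorem Small.absurd_of_bound [hn : N.Normal] {g x : G} (hg : NonA r N g) (hx : Comp r N x) (L : Subgroup G)
    (hL : (C g).map (QuotientGroup.mk' N) ≤ L.map (QuotientGroup.mk' N))
    (P : G → ℕ → Prop) (h1 : ∀ l ∈ L, ∃ i, i ≠ 0 ∧ i < r ∧ P l i)
    (h2 : ∀ l ∈ L, ∀ l' ∈ L, ∀ i, P l i → P l' i →
      QuotientGroup.mk' N (l⁻¹ * l') ∈ (C x).map (QuotientGroup.mk' N)) :
    False := by
  have h3 := (Subgroup.card_le_of_le hL).trans (card_image_le (B := C x) P h1 h2)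
  rw [D.image_eq hg hx] at h3
  have := Nat.le_of_mul_le_mul_right h3 Nat.card_pos
  have := D.r_lt_hh hx
  omega

end CfsgLib.TwoSizesNormal
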