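import Cfsg.Agent.TwoSizesNormal.Basic
import Cfsg.Agent.OneMMN.Step
import Cfsg.Agent.PReduced.Hom

/-!
The `r`-part `T` of a component has index `r` in its normalizer inside a Sylow subgroup, and unless `T` is
minimal the group `N` is abelian.
-/

set_option autoImplicit false

namespace CfsgLib.TwoSizesNormal

open OneMMN

variable {G : Type*} [Group G] {r : ℕ} {N : Subgroup G} {R : Sylow r G} {m : ℕ}

/-- The common order of the central `r`-subgroup. -/
noncomputable def zr (R : Sylow r G) : ℕ := Nat.card ((R : Subgroup G) ⊓ Subgroup.center G : Subgroup G)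

theorem T_conj (r : ℕ) (g x : G) : T r (g * x * g⁻¹) = (T r x).map (MulAut.conj g).toMonoidHom := by
  rw [T, T, MonoidHom.map_closure]
  congr 1
  ext y
  simp only [Set.mem_setOf_eq, Set.mem_image, MulEquiv.coe_toMonoidHom, MulAut.conj_apply]
  constructor
  · rintro ⟨hy, hyr⟩
    refine ⟨g⁻¹ * y * g, ⟨mem_C_conj.1 hy, ?_⟩, by group⟩
    simpa using hyr.conj g⁻¹
  · rintro ⟨z, ⟨hz, hzr⟩, rfl⟩
    exact ⟨mem_C_conj.2 (by simpa [mul_assoc] using hz), hzr.conj g⟩

theorem exists_normalizing {p : ℕ} [Fact p.Prime] [Finite G] {V U : Subgroup G} (hV : IsPGroup p V)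
    (hUV : U ≤ V) (hne : U ≠ V) : ∃ g ∈ V, g ∉ U ∧ g ∈ Subgroup.normalizer (U : Set G) := by
  haveI := IsPGroup.isNilpotent hV
  have hlt : U.subgroupOf V < ⊤ := lt_top_iff_ne_top.2 fun e =>
    hne (le_antisymm hUV (Subgroup.subgroupOf_eq_top.1 e))
  obtain ⟨g, hg, hgU⟩ := SetLike.exists_of_lt (Group.normalizerCondition_of_isNilpotent _ hlt)
  refine ⟨g, g.2, fun h => hgU (Subgroup.mem_subgroupOf.2 h), ?_⟩
  rw [Subgroup.mem_normalizer_iff] at hg ⊢
  intro h
  constructor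
  · intro hh
    exact (hg ⟨h, hUV hh⟩).1 hh
  · intro hh
    have hhV : h ∈ V := by
      have := mul_mem (mul_mem (inv_mem g.2) (hUV hh)) g.2
      simpa [mul_assoc] using this
    exact (hg ⟨h, hhV⟩).2 hh

/-- Two `r`-subgroups with the same noncentral element are bounded by the index. -/
theorem card_le_relIndex_mul [Finite G] {U U' W : Subgroup G} (hU'W : U' ≤ W) :
    Nat.card U' ≤ U.relIndex W * Nat.card (U ⊓ U' : Subgroup G) := by
  have h : U.relIndex U' ≤ U.relIndex W := Subgroup.relIndex_le_of_le_right hU'W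
    Subgroup.index_ne_zero_of_finite
  have e : Nat.card U' = U.relIndex U' * Nat.card (U ⊓ U' : Subgroup G) := by
    rw [← Subgroup.inf_relIndex_right, Subgroup.relIndex, mul_comm,
      ← Nat.card_congr (Subgroup.subgroupOfEquivOfLe (inf_le_right : U ⊓ U' ≤ U')).toEquiv,
      Subgroup.card_mul_index]
  rw [e]
  exact Nat.mul_le_mul_right _ h

variable [Finite G] [Fact r.Prime] (D : Setup r N R m)
include D

omit D in
theorem mem_inf_center {V : Subgroup G} (hV : IsPGroup r V) {v : G} (hv : v ∈ V)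
    (hvc : v ∈ Subgroup.center G) : v ∈ (R : Subgroup G) ⊓ Subgroup.center G :=
  ⟨central_rElt_mem R hvc (PElt.of_mem Fact.out hV hv), hvc⟩

omit D in
theorem exists_nc_of_card {V : Subgroup G} (hV : IsPGroup r V) (h : zr R < Nat.card V) :
    ∃ v ∈ V, v ∉ Subgroup.center G :=
  exists_not_center_of_card (Z := (R : Subgroup G) ⊓ Subgroup.center G) h fun _ hv hvc => mem_inf_center hV hv hvc

theorem Setup.zr_dvd {x : G} (hx : Comp r N x) : zr R ∣ Nat.card (T r x) :=
  Subgroup.card_dvd_of_le fun _ hz => mem_T (center_le_C x hz.2) (PElt.of_mem Fact.out R.isPGroup' hz.1)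

theorem Setup.exists_T_nc {x : G} (hx : Comp r N x) : ∃ t ∈ T r x, NC N t := by
  obtain ⟨y, hy, hyr, hyN⟩ := D.exists_nc_rElt hx.1
  exact ⟨y, mem_T hy hyr, hyN⟩

theorem Setup.r_mul_zr_le {x : G} (hx : Comp r N x) : r * zr R ≤ Nat.card (T r x) := by
  obtain ⟨k, hk⟩ := D.zr_dvd hx
  obtain ⟨i, hi⟩ := (D.T_spec hx).1.exists_card_eq
  have hkd : k ∣ r ^ i := ⟨zr R, by rw [← hi, hk, mul_comm]⟩
  obtain ⟨j, -, rfl⟩ := (Nat.dvd_prime_pow Fact.out).1 hkd
  rcases j with _ | j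
  · exfalso
    rw [pow_zero, mul_one] at hk
    obtain ⟨t, ht, htN⟩ := D.exists_T_nc hx
    have e : (R : Subgroup G) ⊓ Subgroup.center G = T r x := Subgroup.eq_of_le_of_card_ge
      (fun _ hz => mem_T (center_le_C x hz.2) (PElt.of_mem Fact.out R.isPGroup' hz.1)) hk.le
    exact htN.2 (e.ge ht).2
  · rw [hk, mul_comm r]
    exact Nat.mul_le_mul_left _ (Nat.le_self_pow j.succ_ne_zero r)

theorem Setup.mem_normalizer_C {x g : G} (hx : Comp r N x)
    (hg : g ∈ Subgroup.normalizer (T r x : Set G)) : g ∈ Subgroup.normalizer (C x : Set G) := by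
  obtain ⟨t, ht, htN⟩ := D.exists_T_nc hx
  have e1 := D.comp_eq hx (T_le r x ht) htN
  have e2 := D.comp_eq hx (T_le r x ((Subgroup.mem_normalizer_iff.1 hg t).1 ht)) (D.NC_conj htN g)
  rw [Subgroup.mem_normalizer_iff]
  intro y
  constructor
  · intro hy
    rw [← e2, mem_C_conj, e1]
    simpa [mul_assoc] using hy
  · intro hy
    rw [← e2, mem_C_conj, e1] at hy
    simpa [mul_assoc] using hy

omit D in
theorem mem_normalizer_T {x g : G} (hg : g ∈ Subgroup.normalizer (C x : Set G)) :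
    g ∈ Subgroup.normalizer (T r x : Set G) := by
  have aux : ∀ h ∈ Subgroup.normalizer (C x : Set G), ∀ y ∈ T r x, h * y * h⁻¹ ∈ T r x := by
    intro h hh y hy
    induction hy using Subgroup.closure_induction with
    | mem z hz => exact mem_T ((Subgroup.mem_normalizer_iff.1 hh z).1 hz.1) (hz.2.conj h)
    | one => simp
    | mul a b _ _ ha hb => simpa [mul_assoc] using mul_mem ha hb
    | inv a _ ha => simpa [mul_assoc] using inv_mem ha
  rw [Subgroup.mem_normalizer_iff]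
  exact fun y => ⟨aux g hg y, fun h => by simpa [mul_assoc] using aux g⁻¹ (inv_mem hg) _ h⟩

/-- An `r`-element commuting with a noncentral element of `C x ⊓ N` lies in `T x`. -/
theorem Setup.mem_T_of_comm {x g h : G} (hx : Comp r N x) (hgr : PElt r g) (hh : h ∈ C x) (hhN : NC N h)
    (hgh : g ∈ C h) : g ∈ T r x := mem_T (D.comp_eq hx hh hhN ▸ hgh) hgr

theorem Setup.T_ne_sylow {x : G} (hx : Comp r N x) (hr : r ∣ m) (hm : m ≠ 0) (R1 : Sylow r G) :
    T r x ≠ (R1 : Subgroup G) := by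
  intro e
  have h := (D.T_spec hx).2.2
  rw [e, R1.card_eq_multiplicity] at h
  have h1 : 1 < r ^ m.factorization r :=
    Nat.one_lt_pow ((Fact.out : r.Prime).factorization_pos_of_dvd hm hr).ne' (Fact.out : r.Prime).one_lt
  exact (Nat.lt_irrefl _ (lt_of_lt_of_eq ((lt_mul_iff_one_lt_right
    (Nat.pow_pos (Fact.out : r.Prime).pos)).2 h1) h))

theorem Setup.card_T_eq {x y : G} (hx : Comp r N x) (hy : Comp r N y) :
    Nat.card (T r x) = Nat.card (T r y) :=
  Nat.eq_of_mul_eq_mul_right (Nat.pow_pos (Fact.out : r.Prime).pos)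
    ((D.T_spec hx).2.2.trans (D.T_spec hy).2.2.symm)

/-- A noncentral element of `T x` fixed modulo the centre by a normalizing `r`-group. -/
theorem Setup.exists_fixed {x : G} (hx : Comp r N x) {W : Subgroup G} (hW : IsPGroup r W)
    (hTW : T r x ≤ W) (hWn : W ≤ Subgroup.normalizer (T r x : Set G)) :
    ∃ b ∈ T r x, NC N b ∧ b ^ r ∈ Subgroup.center G ∧ ∀ g ∈ W, π g * π b = π b * π g := by
  set V := W.map (π (G := G)) with hVdef
  have hV : IsPGroup r V := hW.map _
  set U := ((T r x).map (π (G := G))).subgroupOf V with hU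
  haveI : U.Normal := by
    constructor
    rintro ⟨u, huV⟩ hu ⟨v, hv⟩
    rw [hU, Subgroup.mem_subgroupOf] at hu ⊢
    obtain ⟨t, ht, rfl⟩ := hu
    obtain ⟨w, hw, rfl⟩ := hv
    exact ⟨w * t * w⁻¹, (Subgroup.mem_normalizer_iff.1 (hWn hw) t).1 ht, by simp [map_mul, map_inv]⟩
  have hne : U ≠ ⊥ := fun e => by
    obtain ⟨t, ht, htN⟩ := D.exists_T_nc hx
    have hm : (⟨π t, Subgroup.mem_map_of_mem _ (hTW ht)⟩ : V) ∈ U :=
      Subgroup.mem_subgroupOf.2 (Subgroup.mem_map_of_mem _ ht)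
    rw [e, Subgroup.mem_bot] at hm
    exact htN.2 (π_eq_one_iff.1 (congrArg Subtype.val hm))
  obtain ⟨z, hz, hz1⟩ := (U ⊓ Subgroup.center V).bot_or_exists_ne_one.resolve_left
    (PReduced.inf_center_ne_bot hV hne)
  obtain ⟨b₀, hb₀, hb₀z⟩ := Subgroup.mem_subgroupOf.1 hz.1
  have hb₀r : PElt r b₀ := PElt.of_mem Fact.out (D.T_spec hx).1 hb₀
  obtain ⟨k, hk⟩ : ∃ k, orderOf (π b₀) = r ^ (k + 1) := by
    obtain ⟨l, hl⟩ := hb₀r
    obtain ⟨j, -, hj⟩ := (Nat.dvd_prime_pow Fact.out).1 (hl ▸ orderOf_map_dvd (π (G := G)) b₀)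
    rcases j with _ | j
    · refine absurd (Subtype.ext ?_) hz1
      rw [pow_zero, orderOf_eq_one_iff] at hj
      exact hb₀z.symm.trans hj
    · exact ⟨j, hj⟩
  refine ⟨b₀ ^ r ^ k, pow_mem hb₀ _, ⟨pow_mem ((D.T_spec hx).2.1 hb₀) _, fun h => ?_⟩, ?_, fun g hg => ?_⟩
  · rw [← π_eq_one_iff, map_pow] at h
    have := Nat.le_of_dvd (Nat.pow_pos (Fact.out : r.Prime).pos) (orderOf_dvd_of_pow_eq_one h)
    rw [hk] at this
    exact absurd this (not_le.2 (Nat.pow_lt_pow_right (Fact.out : r.Prime).one_lt k.lt_succ_self))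
  · rw [← π_eq_one_iff, map_pow, map_pow, ← pow_mul, ← pow_succ, ← hk, pow_orderOf_eq_one]
  · have hc := congrArg Subtype.val (Subgroup.mem_center_iff.1 hz.2 ⟨π g, Subgroup.mem_map_of_mem _ hg⟩)
    rw [Subgroup.coe_mul, Subgroup.coe_mul, ← hb₀z] at hc
    rw [map_pow]
    exact ((show Commute (π g) (π b₀) from hc).pow_right _).eq

theorem Setup.pow_r_mem {x : G} (hx : Comp r N x) {W : Subgroup G} (hW : IsPGroup r W)
    (hTW : T r x ≤ W) (hWn : W ≤ Subgroup.normalizer (T r x : Set G)) {g : G} (hg : g ∈ W)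
    (hgT : g ∉ T r x) : g ^ r ∈ Subgroup.center G := by
  obtain ⟨b, hb, hbN, hbr, hfix⟩ := D.exists_fixed hx hW hTW hWn
  have hgr := PElt.of_mem Fact.out hW hg
  refine D.pow_mem_center ⟨D.rElt_mem hgr, fun h => hgT (mem_T (center_le_C x h) hgr)⟩ hbN (hfix g hg) ?_ hbr
  intro e
  refine hgT (mem_T ?_ hgr)
  rw [← D.comp_eq hx (T_le r x hb) hbN, ← e]
  exact self_mem_C g

theorem Setup.card_W_le {x : G} (hx : Comp r N x) {W : Subgroup G} (hW : IsPGroup r W)
    (hTW : T r x ≤ W) (hWn : W ≤ Subgroup.normalizer (T r x : Set G)) :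
    Nat.card W ≤ r * Nat.card (T r x) := by
  by_contra hgt
  push Not at hgt
  haveI hn : ((T r x).subgroupOf W).Normal := Subgroup.normal_subgroupOf_iff_le_normalizer hTW |>.2 hWn
  set Q := W ⧸ (T r x).subgroupOf W with hQ
  have hexp : ∀ a : Q, a ^ r = 1 := fun a => by
    obtain ⟨a, rfl⟩ := QuotientGroup.mk_surjective a
    rw [← QuotientGroup.mk_pow, QuotientGroup.eq_one_iff, Subgroup.mem_subgroupOf]
    by_cases ha : (a : G) ∈ T r x
    · exact pow_mem ha r
    · exact mem_T (center_le_C x (D.pow_r_mem hx hW hTW hWn a.2 ha)) (PElt.of_mem Fact.out hW (pow_mem a.2 r))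
  have hQp : IsPGroup r Q := hW.to_quotient _
  have hcard : Nat.card W = Nat.card Q * Nat.card (T r x) := by
    rw [Subgroup.card_eq_card_quotient_mul_card_subgroup ((T r x).subgroupOf W),
      Nat.card_congr (Subgroup.subgroupOfEquivOfLe hTW).toEquiv]
  have hQr : r < Nat.card Q := by
    rw [hcard] at hgt
    exact Nat.lt_of_mul_lt_mul_right hgt
  haveI : Nontrivial Q := Finite.one_lt_card_iff_nontrivial.1 ((Fact.out : r.Prime).one_lt.trans hQr)
  haveI := hQp.center_nontrivial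
  obtain ⟨c, hc⟩ := exists_ne (1 : Subgroup.center Q)
  have hc1 : (c : Q) ≠ 1 := fun e => hc (Subtype.ext e)
  have hco : Nat.card (Subgroup.zpowers (c : Q)) = r := by
    rw [Nat.card_zpowers]
    exact orderOf_eq_prime (hexp _) hc1
  obtain ⟨g, hg⟩ : ∃ g : Q, g ∉ Subgroup.zpowers (c : Q) := by
    by_contra h
    push Not at h
    rw [← hco] at hQr
    exact absurd hQr (not_lt.2 (Nat.card_le_card_of_injective (fun q : Q => (⟨q, h q⟩ : Subgroup.zpowers (c : Q)))
      fun _ _ e => congrArg Subtype.val e))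
  haveI hK : IsMulCommutative (Subgroup.closure ({(c : Q), g} : Set Q)) := by
    refine Subgroup.isMulCommutative_closure ?_
    have := Subgroup.mem_center_iff.1 c.2 g
    rintro a (rfl | rfl) b (rfl | rfl) <;> first | rfl | exact this | exact this.symm
  set K := Subgroup.closure ({(c : Q), g} : Set Q)
  set f := QuotientGroup.mk' ((T r x).subgroupOf W)
  set P := (K.comap f).map W.subtype with hP
  have hPc : Nat.card P = Nat.card K * Nat.card (T r x) := by
    rw [hP, Subgroup.card_map_of_injective (Subgroup.subtype_injective _)]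
    have h1 := (K.comap f).card_mul_index
    rw [K.index_comap_of_surjective (QuotientGroup.mk'_surjective _), hcard, ← K.card_mul_index] at h1
    have h2 : Nat.card (K.comap f) * K.index = Nat.card K * Nat.card (T r x) * K.index := by rw [h1]; ring
    exact Nat.eq_of_mul_eq_mul_right (Nat.pos_of_ne_zero Subgroup.index_ne_zero_of_finite) h2
  have hKr : r < Nat.card K := by
    refine hco.symm.trans_lt ?_
    refine lt_of_le_of_ne (Subgroup.card_le_of_le ?_) fun e => hg ?_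
    · exact Subgroup.zpowers_le.2 (Subgroup.subset_closure (Or.inl rfl))
    · have hcK : (c : Q) ∈ K := Subgroup.subset_closure (Or.inl rfl)
      rw [Subgroup.eq_of_le_of_card_ge (Subgroup.zpowers_le.2 hcK) e.ge]
      exact Subgroup.subset_closure (Or.inr rfl)
  have hPW : P ≤ W := Subgroup.map_subtype_le _
  have hTP : T r x ≤ P := fun t ht => ⟨⟨t, hTW ht⟩, by
    rw [SetLike.mem_coe, Subgroup.mem_comap]
    have : f ⟨t, hTW ht⟩ = 1 := (QuotientGroup.eq_one_iff _).2 ht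
    rw [this]; exact one_mem _, rfl⟩
  have hle := card_le_of_semiregular P (T r x) (H r N x) (hW.to_le hPW) hTP
    (fun y hy => ?_) (fun h hh => ((D.mem_H hx).1 hh).2.2)
    (fun s hs h hh => D.comm hx (T_le r x hs) ((D.mem_H hx).1 hh).1 ((D.mem_H hx).1 hh).2.1)
    (fun y hy => ?_) (fun y hy z hz => ?_) (fun y hy hyT h hh hc' => ?_) ?_
  · rw [hPc] at hle
    exact absurd hle (not_le.2 (Nat.mul_lt_mul_of_pos_right hKr Nat.card_pos))
  · have hC := D.mem_normalizer_C hx (hWn (hPW hy))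
    have aux : ∀ u ∈ Subgroup.normalizer (C x : Set G), ∀ h ∈ H r N x, u * h * u⁻¹ ∈ H r N x := fun u hu h hh => by
      obtain ⟨h1, h2, h3⟩ := (D.mem_H hx).1 hh
      exact (D.mem_H hx).2 ⟨(Subgroup.mem_normalizer_iff.1 hu h).1 h1, D.conj_mem_N h2 u,
        by rwa [orderOf_conj]⟩
    rw [Subgroup.mem_normalizer_iff]
    exact fun h => ⟨aux y hC h, fun hh => by simpa [mul_assoc] using aux y⁻¹ (inv_mem hC) _ hh⟩
  · obtain ⟨w, hw, rfl⟩ := hy
    have := hexp (f w)
    rw [← map_pow] at this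
    exact Subgroup.mem_subgroupOf.1 ((QuotientGroup.eq_one_iff (w ^ r)).1 this)
  · obtain ⟨a, ha, rfl⟩ := hy
    obtain ⟨b, hb, rfl⟩ := hz
    have h1 : f a * f b = f b * f a := congrArg Subtype.val (hK.is_comm.comm ⟨f a, ha⟩ ⟨f b, hb⟩)
    have h2 : f (a * b * a⁻¹ * b⁻¹) = 1 := by simp [map_mul, map_inv, h1]
    exact Subgroup.mem_subgroupOf.1 ((QuotientGroup.eq_one_iff (a * b * a⁻¹ * b⁻¹)).1 h2)
  · by_contra hhc
    obtain ⟨h1, h2, -⟩ := (D.mem_H hx).1 hh
    exact hyT (D.mem_T_of_comm hx (PElt.of_mem Fact.out hW (hPW hy)) h1 ⟨h2, hhc⟩ (mem_C.2 hc'))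
  · obtain ⟨hxN, p, hp, hpr, hpx⟩ := hx
    exact ⟨x, Subgroup.subset_closure ⟨self_mem_C x, hxN.1, PElt.not_dvd Fact.out hp hpr hpx⟩, hxN.2⟩

/-- The normalizer of `T x` in a Sylow subgroup. -/
def W (r : ℕ) (R1 : Sylow r G) (x : G) : Subgroup G :=
  (R1 : Subgroup G) ⊓ Subgroup.normalizer (T r x : Set G)

theorem Setup.W_spec {x : G} (hx : Comp r N x) (hr : r ∣ m) (hm : m ≠ 0) (R1 : Sylow r G)
    (h : T r x ≤ R1) : T r x ≤ W r R1 x ∧ Nat.card (W r R1 x) = r * Nat.card (T r x) := by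
  have hTW : T r x ≤ W r R1 x := le_inf h Subgroup.le_normalizer
  have hW : IsPGroup r (W r R1 x) := R1.isPGroup'.to_le inf_le_left
  refine ⟨hTW, le_antisymm (D.card_W_le hx hW hTW inf_le_right) ?_⟩
  obtain ⟨g, hg1, hg2, hg3⟩ := exists_normalizing R1.isPGroup' h (D.T_ne_sylow hx hr hm R1)
  obtain ⟨k, hk⟩ := Subgroup.card_dvd_of_le hTW
  obtain ⟨i, hi⟩ := hW.exists_card_eq
  have hkd : k ∣ r ^ i := ⟨Nat.card (T r x), by rw [← hi, hk, mul_comm]⟩
  obtain ⟨j, -, rfl⟩ := (Nat.dvd_prime_pow Fact.out).1 hkd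
  rcases j with _ | j
  · rw [pow_zero, mul_one] at hk
    exact absurd ((Subgroup.eq_of_le_of_card_ge hTW hk.le).ge ⟨hg1, hg3⟩) hg2
  · rw [hk, mul_comm r]
    exact Nat.mul_le_mul_left _ (Nat.le_self_pow j.succ_ne_zero r)

/-- Unless `T x` is minimal, its normalizer contains a Sylow subgroup. -/
theorem Setup.W_eq {x : G} (hx : Comp r N x) (hr : r ∣ m) (hm : m ≠ 0) (R1 : Sylow r G)
    (h : T r x ≤ R1) (hbig : r * zr R < Nat.card (T r x)) : W r R1 x = R1 := by
  by_contra hne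
  obtain ⟨k, hk, hkW, hkn⟩ := exists_normalizing R1.isPGroup' (inf_le_left : W r R1 x ≤ R1) hne
  obtain ⟨hTW, hWc⟩ := D.W_spec hx hr hm R1 h
  set x' := k * x * k⁻¹ with hx'
  have hT'W : T r x' ≤ W r R1 x := by
    rw [hx', T_conj]
    rintro _ ⟨t, ht, rfl⟩
    exact (Subgroup.mem_normalizer_iff.1 hkn t).1 (hTW ht)
  have hx'c := D.Comp_conj hx k
  have hc : T r x ⊓ T r x' ≤ (R : Subgroup G) ⊓ Subgroup.center G := fun t ht => by
    by_contra hn
    have htc : t ∉ Subgroup.center G := fun e => hn (mem_inf_center (D.T_spec hx).1 ht.1 e)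
    have htN : NC N t := ⟨(D.T_spec hx).2.1 ht.1, htc⟩
    have e : C x' = C x := (D.comp_eq hx'c (T_le r _ ht.2) htN).symm.trans (D.comp_eq hx (T_le r x ht.1) htN)
    refine hkW ⟨hk, mem_normalizer_T (Subgroup.mem_normalizer_iff.2 fun y => ?_)⟩
    conv_rhs => rw [← e, hx', mem_C_conj]
    simp [mul_assoc]
  have h1 := card_le_relIndex_mul (U := T r x) hT'W
  have h2 : (T r x).relIndex (W r R1 x) = r := by
    have h3 := ((T r x).subgroupOf (W r R1 x)).card_mul_index
    rw [Nat.card_congr (Subgroup.subgroupOfEquivOfLe hTW).toEquiv, hWc, mul_comm r] at h3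
    exact Nat.eq_of_mul_eq_mul_left Nat.card_pos h3
  rw [h2, D.card_T_eq hx'c hx] at h1
  exact absurd (h1.trans (Nat.mul_le_mul_left r (Subgroup.card_le_of_le hc))) (not_le.2 hbig)

/-- If `T x` is not minimal, `N` is abelian. -/
theorem Setup.comm_of_big {x : G} (hx : Comp r N x) (hr : r ∣ m) (hm : m ≠ 0)
    (hbig : r * zr R < Nat.card (T r x)) : IsMulCommutative N := by
  haveI := D.normal
  obtain ⟨hT, hTN, hTc⟩ := D.T_spec hx
  obtain ⟨R1, hR1⟩ := hT.exists_le_sylow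
  have hR1N : (R1 : Subgroup G) ≤ N := D.rSub_le R1.isPGroup'
  obtain ⟨-, hR1c⟩ := D.W_spec hx hr hm R1 hR1
  rw [D.W_eq hx hr hm R1 hR1 hbig] at hR1c
  have hle : N ≤ C x := by
    refine Subgroup.subgroupOf_eq_top.1 (TwoClasses.eq_top_of_conj_cover _ fun a => ?_)
    by_cases hac : (a : G) ∈ Subgroup.center G
    · exact ⟨1, by rw [Subgroup.mem_subgroupOf]; simpa using center_le_C x hac⟩
    have haN : NC N a := ⟨a.2, hac⟩
    obtain ⟨U, hU, hUa, -, hUc⟩ := D.exists_rSub haN IsPGroup.of_bot (bot_le (a := C (a : G)))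
    obtain ⟨R2, hR2⟩ := hU.exists_le_sylow
    obtain ⟨g, hg⟩ := MulAction.exists_smul_eq G R1 R2
    have hgm : g ∈ Subgroup.normalizer ((R1 : Subgroup G) : Set G) ⊔ N :=
      (Sylow.normalizer_sup_eq_top' R1 hR1N).ge (Subgroup.mem_top g)
    rw [sup_comm, ← SetLike.mem_coe, Subgroup.normal_mul] at hgm
    obtain ⟨n, hn, s, hs, rfl⟩ := Set.mem_mul.1 hgm
    have hUR1 : ∀ u ∈ U, n⁻¹ * u * n ∈ (R1 : Subgroup G) := by
      intro u hu
      have h1 := hR2 hu
      rw [← hg, Sylow.coe_subgroup_smul] at h1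
      obtain ⟨v, hv, rfl⟩ := h1
      have h2 := (Subgroup.mem_normalizer_iff.1 hs v).1 hv
      convert h2 using 1
      show n⁻¹ * ((n * s) * v * (n * s)⁻¹) * n = _
      group
    set U' := U.map (MulAut.conj n⁻¹).toMonoidHom with hU'
    have hU'R : U' ≤ R1 := by
      rintro _ ⟨u, hu, rfl⟩
      simpa using hUR1 u hu
    have hU'c : Nat.card U' = Nat.card (T r x) := by
      rw [hU', Subgroup.card_map_of_injective (MulAut.conj n⁻¹).injective]
      exact Nat.eq_of_mul_eq_mul_right (Nat.pow_pos (Fact.out : r.Prime).pos) (hUc.trans hTc.symm)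
    have h1 := card_le_relIndex_mul (U := T r x) hU'R
    have h2 : (T r x).relIndex (R1 : Subgroup G) = r := by
      have h3 := ((T r x).subgroupOf (R1 : Subgroup G)).card_mul_index
      rw [Nat.card_congr (Subgroup.subgroupOfEquivOfLe hR1).toEquiv, hR1c, mul_comm r] at h3
      exact Nat.eq_of_mul_eq_mul_left Nat.card_pos h3
    rw [h2, hU'c] at h1
    obtain ⟨t, ht, htc⟩ := exists_nc_of_card (R := R) (V := T r x ⊓ U') (hT.to_le inf_le_left)
      (Nat.lt_of_mul_lt_mul_left (hbig.trans_le h1))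
    refine ⟨⟨n, hn⟩, ?_⟩
    rw [Subgroup.mem_subgroupOf, ← D.comp_eq hx (T_le r x ht.1) ⟨hTN ht.1, htc⟩]
    obtain ⟨u, hu, hut⟩ := ht.2
    push_cast
    have hut' : n⁻¹ * u * n = t := by simpa using hut
    rw [mem_C_comm, ← hut', mem_C]
    have h3 := mem_C.1 (hUa hu)
    calc n⁻¹ * u * n * (n⁻¹ * (a : G) * n) = n⁻¹ * (u * a) * n := by group
      _ = n⁻¹ * ((a : G) * u) * n := by rw [h3]
      _ = _ := by group
  exact ⟨⟨fun a b => Subtype.ext (D.comm hx (hle a.2) (hle b.2) b.2)⟩⟩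

end CfsgLib.TwoSizesNormal
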